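import Groth.Agent.KunnethHH.Main
import Groth.Agent.HyperellLib.Push
import Groth.Agent.S1647
import Groth.Agent.Bdd.Free
import Groth.Agent.Lib.CurveTensor
import Groth.Agent.Lib.RegEpiGen
import Groth.Agent.Lib.CurveVanish
import Groth.Agent.Lib.KoszulChop
import Groth.Agent.KRRReg.KMaps
import Groth.Agent.H23.PicMul
import Groth.Agent.S0844
import Groth.Agent.ExtPowSh.Model

/-!
# Bundles on `P¹ × P¹`: twists, vanishing and the pulled back Euler sequence
-/

set_option linter.style.haveILetI false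
set_option linter.unusedSectionVars false
set_option backward.isDefEq.respectTransparency false
set_option backward.isDefEq.respectTransparency.types false
set_option autoImplicit false
set_option maxHeartbeats 800000

universe u

open CategoryTheory CategoryTheory.Limits AlgebraicGeometry TopologicalSpace Opposite MonoidalCategory
open scoped TensorProduct

noncomputable section

namespace Groth.Agent.QuadricKer

open Groth.Agent.PnCoh.Finite (mapLin deltaLin)

/-- Tensoring keeps a short exact sequence with locally free quotient exact. -/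
theorem shortExact_tensor_quot {X : Scheme.{u}} (E : X.Modules) {S : ShortComplex X.Modules} (hS : S.ShortExact)
    (h₃ : FlatMod.IsFinLocFree S.X₃) : (S.map (DCoh.tensorBi.obj E)).ShortExact := by
  let F := DCoh.tensorBi.obj E
  haveI : Epi S.g := hS.epi_g
  haveI : Mono S.f := hS.mono_f
  have hex : (S.map F).Exact := hS.exact.map_of_epi_of_preservesCokernel F inferInstance inferInstance
  have hmono : Mono (F.map S.f) := by
    refine Preadditive.mono_of_isZero_kernel _ (KFlatLib.isZero_of_stalk _ fun x => ?_)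
    haveI : Mono ((DerSch.stalkFunctor X x).map (F.map S.f)) := by
      haveI : (DerSch.stalkFunctor X x).Additive := Functor.additive_of_preserves_binary_products _
      have hx := hS.map_of_exact (DerSch.stalkFunctor X x)
      haveI : Projective (S.map (DerSch.stalkFunctor X x)).X₃ := by
        haveI : Module.Free (X.presheaf.stalk x) ((DerSch.stalkFunctor X x).obj S.X₃) :=
          QCoh.free_stalk_of_isFinLocFree h₃ x
        haveI : Module.Projective (X.presheaf.stalk x) ((DerSch.stalkFunctor X x).obj S.X₃) :=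
          Module.Projective.of_free
        exact (IsProjective.iff_projective (R := X.presheaf.stalk x) _).1 this
      let σ := hx.splittingOfProjective
      haveI : IsSplitMono ((DerSch.stalkFunctor X x).map S.f) := ⟨⟨⟨σ.r, σ.f_r⟩⟩⟩
      have hm : Mono ((tensorLeft ((DerSch.stalkFunctor X x).obj E)).map ((DerSch.stalkFunctor X x).map S.f)) :=
        IsSplitMono.mono _
      exact ((MorphismProperty.monomorphisms (ModuleCat.{u} (X.presheaf.stalk x))).arrow_mk_iso_iff
        (((Functor.mapArrowFunctor _ _).mapIso (KFlatLib.stalkTensorLeftIso E x)).app (Arrow.mk S.f))).2 hm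
    exact (isZero_kernel_of_mono ((DerSch.stalkFunctor X x).map (F.map S.f))).of_iso
      (PreservesKernel.iso (DerSch.stalkFunctor X x) (F.map S.f))
  haveI hepi : Epi (F.map S.g) := inferInstance
  exact ShortComplex.ShortExact.mk' hex hmono hepi

theorem nonempty_tensor_congr {X : Scheme.{u}} {A A' B B' : X.Modules} (e : A ≅ A') (e' : B ≅ B') :
    Nonempty (CohB1.tensorMod A B ≅ CohB1.tensorMod A' B') :=
  ⟨(DCoh.tensorBi.mapIso e).app B ≪≫ (DCoh.tensorBi.obj A').mapIso e'⟩

theorem nonempty_tensor_four {X : Scheme.{u}} (A B C D : X.Modules) :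
    Nonempty (CohB1.tensorMod (CohB1.tensorMod A B) (CohB1.tensorMod C D) ≅
      CohB1.tensorMod (CohB1.tensorMod A C) (CohB1.tensorMod B D)) := by
  obtain ⟨e1⟩ := H23.PicMul.assoc A B (CohB1.tensorMod C D)
  obtain ⟨e2⟩ := H23.PicMul.assoc B C D
  obtain ⟨e3⟩ := H23.PicMul.comm B C
  obtain ⟨e4⟩ := H23.PicMul.assoc C B D
  obtain ⟨e5⟩ := H23.PicMul.assoc A C (CohB1.tensorMod B D)
  obtain ⟨c3⟩ := nonempty_tensor_congr e3 (Iso.refl D)
  obtain ⟨c⟩ := nonempty_tensor_congr (Iso.refl A) (e2.symm ≪≫ c3 ≪≫ e4)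
  exact ⟨e1 ≪≫ c ≪≫ e5.symm⟩

section General

variable {k : Type u} [Field k] {X : Scheme.{u}} [X.Over (Spec (CommRingCat.of k))]

/-- Cohomology of a finite sum. -/
theorem finrank_coprod {r : ℕ} (T : X.Modules) (n : ℕ) [Module.Finite k (Coh.HH X T n)] :
    Module.Finite k (Coh.HH X (∐ fun _ : Fin r => T) n) ∧
      Module.finrank k (Coh.HH X (∐ fun _ : Fin r => T) n) = r * Module.finrank k (Coh.HH X T n) := by
  classical
  haveI := Abelian.hasFiniteBiproducts (C := X.Modules)
  let f := fun _ : Fin r => T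
  let B := (∐ f : X.Modules)
  let p : ∀ j : Fin r, B ⟶ T := fun j => (biproduct.isoCoproduct f).inv ≫ biproduct.π f j
  let q : ∀ j : Fin r, T ⟶ B := fun j => biproduct.ι f j ≫ (biproduct.isoCoproduct f).hom
  have hpq : ∑ j, p j ≫ q j = 𝟙 B := by
    simp only [p, q, Category.assoc]
    simp only [← Category.assoc (biproduct.π f _) (biproduct.ι f _), ← Preadditive.comp_sum,
      ← Preadditive.sum_comp, biproduct.total, Category.id_comp, Iso.inv_hom_id]
  let Φ : Coh.HH X B n →ₗ[k] (Fin r → Coh.HH X T n) := LinearMap.pi fun j => mapLin k (p j) n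
  let Ψ : (Fin r → Coh.HH X T n) →ₗ[k] Coh.HH X B n :=
    ∑ j, mapLin k (q j) n ∘ₗ LinearMap.proj j
  have h1 : ∀ x, Ψ (Φ x) = x := fun x => by
    have h := congrArg (fun φ : B ⟶ B => mapLin k φ n x) hpq
    simp only [CurveDuality.mapLin_id] at h
    refine Eq.trans ?_ h
    have hadd : ∀ (s : Finset (Fin r)), mapLin k (∑ j ∈ s, p j ≫ q j) n x =
        ∑ j ∈ s, mapLin k (q j) n (mapLin k (p j) n x) := by
      intro s
      induction s using Finset.induction_on with
      | empty => simp [CurveDuality.mapLin_zero]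
      | insert j s hj ih =>
        rw [Finset.sum_insert hj, Finset.sum_insert hj, CurveDuality.mapLin_add, ih,
          HyperellLib.mapLin_mapLin]
    rw [hadd]
    simp [Ψ, Φ, LinearMap.sum_apply]
  have h2 : ∀ y, Φ (Ψ y) = y := fun y => by
    funext i
    show mapLin k (p i) n (Ψ y) = y i
    simp only [Ψ, LinearMap.sum_apply, LinearMap.comp_apply, LinearMap.proj_apply, map_sum,
      HyperellLib.mapLin_mapLin]
    rw [Finset.sum_eq_single i]
    · rw [show q i ≫ p i = 𝟙 T by simp [p, q, f], CurveDuality.mapLin_id]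
    · intro j _ hji
      rw [show q j ≫ p i = 0 by simp [p, q, biproduct.ι_π_ne f hji], CurveDuality.mapLin_zero]
    · exact fun h => absurd (Finset.mem_univ i) h
  let e : Coh.HH X B n ≃ₗ[k] (Fin r → Coh.HH X T n) := LinearEquiv.ofBijective Φ
    ⟨Function.LeftInverse.injective h1, Function.RightInverse.surjective h2⟩
  refine ⟨Module.Finite.equiv e.symm, ?_⟩
  rw [e.finrank_eq, Module.finrank_pi_fintype, Finset.sum_const, Finset.card_univ, Fintype.card_fin, smul_eq_mul]

/-- Vanishing of the first cohomology of a kernel. -/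
theorem subsingleton_H1_kernel {S : ShortComplex X.Modules} (hS : S.ShortExact)
    (hs : Function.Surjective (mapLin k S.g 0)) (h2 : Subsingleton (Coh.HH X S.X₂ 1)) :
    Subsingleton (Coh.HH X S.X₁ 1) := by
  refine subsingleton_of_forall_eq 0 fun x => ?_
  have hx : x ∈ LinearMap.ker (mapLin k S.f (0 + 1)) := LinearMap.mem_ker.2 (Subsingleton.elim _ 0)
  rw [CurveCohLib.ker_mapLin_f_succ k hS 0] at hx
  obtain ⟨y, rfl⟩ := hx
  have hy : y ∈ LinearMap.ker (deltaLin k hS 0) := by
    rw [CurveCohLib.ker_deltaLin k hS 0]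
    exact hs y
  exact hy

/-- Vanishing of the global sections of a kernel. -/
theorem subsingleton_H0_kernel {S : ShortComplex X.Modules} (hS : S.ShortExact)
    (hs : Function.Surjective (mapLin k S.g 0)) [Module.Finite k (Coh.HH X S.X₂ 0)]
    [Module.Finite k (Coh.HH X S.X₃ 0)]
    (hd : Module.finrank k (Coh.HH X S.X₂ 0) = Module.finrank k (Coh.HH X S.X₃ 0)) :
    Subsingleton (Coh.HH X S.X₁ 0) := by
  have hinj : Function.Injective (mapLin k S.g 0) :=
    (LinearMap.injective_iff_surjective_of_finrank_eq_finrank hd).2 hs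
  refine subsingleton_of_forall_eq 0 fun x => ?_
  have h0 : mapLin k S.f 0 x = 0 := hinj ((CurveCohLib.mapLin_comp_eq_zero k 0 x).trans (map_zero _).symm)
  have h1 : x ∈ LinearMap.ker (mapLin k S.f 0) := LinearMap.mem_ker.2 h0
  rw [Euler.ker_mapLin_f_zero k hS] at h1
  exact (Submodule.mem_bot k).1 h1

end General

variable (k : Type u) [Field k]

local notation "P1" => CohB1.ProjSpace 1 k
local notation "pi1" => CohB1.ProjSpace.toSpec 1 k
local notation "tw" => Groth.Agent.P1Bundle.tw k

/-- The quadric. -/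
abbrev Quad : Scheme.{u} := pullback pi1 pi1

local notation "p₁" => (pullback.fst pi1 pi1)
local notation "p₂" => (pullback.snd pi1 pi1)

/-- The structure map of the quadric. -/
instance overQuad : (Quad k).Over (Spec (CommRingCat.of k)) := ⟨p₁ ≫ pi1⟩

/-- `O(a, b)`. -/
abbrev O2 (a b : ℤ) : (Quad k).Modules :=
  CohB1.tensorMod ((Scheme.Modules.pullback p₁).obj (tw a)) ((Scheme.Modules.pullback p₂).obj (tw b))

theorem inv_O2 (a b : ℤ) : PicF.IsInvertible (O2 k a b) :=
  InvX.isInvertible_tensorMod (PicClLib.isInvertible_pullback p₁ (P1Bundle.inv_tw k a))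
    (PicClLib.isInvertible_pullback p₂ (P1Bundle.inv_tw k b))

theorem free_O2 (a b : ℤ) : FlatMod.IsFinLocFree (O2 k a b) :=
  CurveStable.isFinLocFree_of_rank (InvEnd.isFinLocFreeOfRank_one (inv_O2 k a b))

theorem nonempty_O2_add (a b c d : ℤ) :
    Nonempty (CohB1.tensorMod (O2 k a b) (O2 k c d) ≅ O2 k (a + c) (b + d)) := by
  obtain ⟨e⟩ := nonempty_tensor_four ((Scheme.Modules.pullback p₁).obj (tw a)) ((Scheme.Modules.pullback p₂).obj (tw b))
    ((Scheme.Modules.pullback p₁).obj (tw c)) ((Scheme.Modules.pullback p₂).obj (tw d))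
  obtain ⟨f1⟩ := H23.PicMul.pull p₁ (tw a) (tw c)
  obtain ⟨f2⟩ := H23.PicMul.pull p₂ (tw b) (tw d)
  obtain ⟨g1⟩ := HyperellLib.tw_tensor k a c
  obtain ⟨g2⟩ := HyperellLib.tw_tensor k b d
  obtain ⟨e'⟩ := nonempty_tensor_congr (f1.symm ≪≫ (Scheme.Modules.pullback p₁).mapIso g1)
    (f2.symm ≪≫ (Scheme.Modules.pullback p₂).mapIso g2)
  exact ⟨e ≪≫ e'⟩

/-- Künneth for `O(a, b)`. -/
theorem nonempty_hh_O2 (a b : ℤ) (n : ℕ) :
    Nonempty ((∀ j : Fin (n + 1), Coh.HH P1 (tw a) j ⊗[k] Coh.HH P1 (tw b) (n - (j : ℕ))) ≃ₗ[k]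
      Coh.HH (Quad k) (O2 k a b) n) := by
  haveI : CompactSpace ↥P1 := QuasiCompact.compactSpace_of_compactSpace ((P1) ↘ Spec (CommRingCat.of k))
  have hfl : FlatMod.IsFlatOver ((P1) ↘ Spec (CommRingCat.of k)) (tw a) := fun x => by
    let p := ((P1) ↘ Spec (CommRingCat.of k)).base x
    letI : Algebra k ((Spec (CommRingCat.of k)).presheaf.stalk p) := StructureSheaf.stalkAlgebra k p
    haveI : IsLocalization.AtPrime ((Spec (CommRingCat.of k)).presheaf.stalk p) p.asIdeal :=
      StructureSheaf.IsLocalization.to_stalk k p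
    have hu : ∀ c ∈ p.asIdeal.primeCompl, IsUnit (c : k) := fun c hc =>
      IsUnit.mk0 c fun h => hc (by rw [h]; exact p.asIdeal.zero_mem)
    have hf : IsField ((Spec (CommRingCat.of k)).presheaf.stalk p) :=
      (IsLocalization.atUnits k p.asIdeal.primeCompl
        (S := (Spec (CommRingCat.of k)).presheaf.stalk p) hu).symm.toRingEquiv.toMulEquiv.isField (Field.toIsField k)
    letI := hf.toField
    letI := FlatMod.moduleStalkOver ((P1) ↘ Spec (CommRingCat.of k)) (tw a) x
    exact (inferInstance : Module.Flat ((Spec (CommRingCat.of k)).presheaf.stalk p) ((tw a).presheaf.stalk x))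
  exact KunnethHH.kunneth (A := k) (X₁ := P1) (X₂ := P1) (CurveStable.coh_of_free k (P1Bundle.free_tw k a)).1
    (CurveStable.coh_of_free k (P1Bundle.free_tw k b)).1 hfl (fun p => inferInstance) n

theorem subsingleton_hh_O2 (a b : ℤ) (n : ℕ)
    (h : ∀ i j : ℕ, i + j = n → Subsingleton (Coh.HH P1 (tw a) i) ∨ Subsingleton (Coh.HH P1 (tw b) j)) :
    Subsingleton (Coh.HH (Quad k) (O2 k a b) n) := by
  obtain ⟨e⟩ := nonempty_hh_O2 k a b n
  haveI : ∀ j : Fin (n + 1), Subsingleton (Coh.HH P1 (tw a) j ⊗[k] Coh.HH P1 (tw b) (n - (j : ℕ))) := fun j => by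
    rcases h j (n - j) (by omega) with h' | h'
    · refine subsingleton_of_forall_eq 0 fun z => ?_
      induction z using TensorProduct.induction_on with
      | zero => rfl
      | tmul x y => rw [Subsingleton.elim x 0, TensorProduct.zero_tmul]
      | add y z hy hz => rw [hy, hz, add_zero]
    · refine subsingleton_of_forall_eq 0 fun z => ?_
      induction z using TensorProduct.induction_on with
      | zero => rfl
      | tmul x y => rw [Subsingleton.elim y 0, TensorProduct.tmul_zero]
      | add y z hy hz => rw [hy, hz, add_zero]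
  exact e.symm.toEquiv.subsingleton

theorem finrank_h0_O2 (a b : ℤ) : Module.Finite k (Coh.HH (Quad k) (O2 k a b) 0) ∧
    (Module.finrank k (Coh.HH (Quad k) (O2 k a b) 0) : ℤ) = max 0 (a + 1) * max 0 (b + 1) := by
  obtain ⟨e⟩ := nonempty_hh_O2 k a b 0
  haveI := fun d n => HyperellLib.finite_hh_tw k d n
  refine ⟨Module.Finite.equiv e, ?_⟩
  rw [← e.finrank_eq, Module.finrank_pi_fintype, Fin.sum_univ_one, Module.finrank_tensorProduct]
  push_cast
  rw [← P1Bundle.h0_tw k a, ← P1Bundle.h0_tw k b]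
  rfl

theorem h0_zero {a : ℤ} (h : a < 0) : Subsingleton (Coh.HH P1 (tw a) 0) :=
  S0844.result k 1 a 0 (fun h' => by omega) (fun h' => absurd h'.1 zero_ne_one)

theorem h1_zero {a : ℤ} (h : -1 ≤ a) : Subsingleton (Coh.HH P1 (tw a) 1) :=
  S0844.result k 1 a 1 (fun h' => absurd h'.1 one_ne_zero) (fun h' => by omega)

theorem h2_zero (a : ℤ) (n : ℕ) : Subsingleton (Coh.HH P1 (tw a) (n + 2)) :=
  S0844.result k 1 a (n + 2) (fun h' => by omega) (fun h' => by omega)

/-- The Euler sequence on the line, twisted. -/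
theorem exists_euler (a : ℤ) : ∃ (S : ShortComplex (P1).Modules), S.ShortExact ∧ Nonempty (S.X₁ ≅ tw (a - 1)) ∧
    Nonempty (S.X₂ ≅ tw a ⊞ tw a) ∧ Nonempty (S.X₃ ≅ tw (a + 1)) := by
  classical
  haveI := Abelian.hasFiniteBiproducts (C := (P1).Modules)
  obtain ⟨e0⟩ := HyperellLib.tw_zero k
  have hgg : Curv2.IsGloballyGenerated (tw 1) := by
    refine AmpleX.isGloballyGenerated_of_iso ?_ (S1647.result k 1 (tw 0) (CurveStable.coh_of_free k (P1Bundle.free_tw k 0)) 1 ?_)
    · exact (HyperellLib.tw_tensor k 0 1).some ≪≫ eqToIso (by rw [zero_add])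
    · intro i h1 h2
      obtain rfl : i = 1 := by omega
      obtain ⟨e⟩ := HyperellLib.tw_tensor k 0 0
      exact QCoh.subsingleton_HH_of_iso (e.symm ≪≫ eqToIso (by norm_num; rfl)) 1 (h1_zero k (by norm_num))
  have hfin := HyperellLib.finite_hh_tw k 1 0
  obtain ⟨q, hq⟩ := Bdd.exists_epi_free_of_finrank (k := k) hgg hfin (N := 2) (by
    have := P1Bundle.h0_tw k 1; omega)
  let two : tw 0 ⊞ tw 0 ≅ FlatMod.freeMod (P1) 2 :=
    biprod.mapIso e0 e0 ≪≫
    { hom := biprod.desc (Sigma.ι (fun _ : Fin 2 => Coh.structureModule (P1)) 0)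
        (Sigma.ι (fun _ : Fin 2 => Coh.structureModule (P1)) 1)
      inv := Sigma.desc fun i => if i = 0 then biprod.inl else biprod.inr
      hom_inv_id := by apply biprod.hom_ext' <;> simp
      inv_hom_id := Sigma.hom_ext _ _ fun i => by fin_cases i <;> simp }
  let f : tw 0 ⊞ tw 0 ⟶ tw 1 := two.hom ≫ q
  haveI := hq
  haveI : Epi f := epi_comp _ _
  have hT : (ShortComplex.mk (kernel.ι f) f (kernel.condition f)).ShortExact :=
    { exact := ShortComplex.exact_of_f_is_kernel _ (kernelIsKernel f) }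
  have hSp := (ShortComplex.Splitting.ofHasBinaryBiproduct (tw 0) (tw 0)).shortExact
  have c0 := CurveStable.coh_of_free k (P1Bundle.free_tw k 0)
  have c1 := CurveStable.coh_of_free k (P1Bundle.free_tw k 1)
  have hBf : FlatMod.IsFinLocFree (tw 0 ⊞ tw 0) := by
    exact ExtPowSh.isFinLocFree_biprod (P1Bundle.free_tw k 0) (P1Bundle.free_tw k 0)
  have cB := CurveStable.coh_of_free k hBf
  have cK : Coh.IsCoh (kernel f) := QCoh.isCoh_kernel cB c1 f
  have hKf := CurveBundle.isFinLocFree_of_mono k (P1Bundle.hdim k).le cK (kernel.ι f) hBf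
  have r1 := CurveSlope.rk_add_coh k _ _ _ hT cB
  have r2 := CurveSlope.rk_add_coh k _ _ _ hSp cB
  have d1 := CurveSlope.dg_add k _ _ _ hT cK cB c1
  have d2 := CurveSlope.dg_add k _ _ _ hSp c0 cB c0
  rw [P1Bundle.rk_tw] at r1 r2
  rw [P1Bundle.dg_tw] at d1 d2
  obtain ⟨eK⟩ := P1Bundle.iso_tw k hKf (by omega)
  rw [show CurveSlope.dg k (kernel f) = -1 by omega] at eK
  obtain ⟨g1⟩ := HyperellLib.tw_tensor k a (-1)
  obtain ⟨g2⟩ := HyperellLib.tw_tensor k a 0
  obtain ⟨g3⟩ := HyperellLib.tw_tensor k a 1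
  refine ⟨_, shortExact_tensor_quot (tw a) hT (P1Bundle.free_tw k 1), ⟨?_⟩, ⟨?_⟩, ⟨g3⟩⟩
  · exact (DCoh.tensorBi.obj (tw a)).mapIso eK ≪≫ g1 ≪≫ eqToIso (by rw [← sub_eq_add_neg])
  · haveI : (DCoh.tensorBi.obj (tw a)).Additive := inferInstance
    haveI := preservesBinaryBiproducts_of_preservesBiproducts (DCoh.tensorBi.obj (tw a))
    exact (DCoh.tensorBi.obj (tw a)).mapBiprod _ _ ≪≫ biprod.mapIso (g2 ≪≫ eqToIso (by rw [add_zero]))
      (g2 ≪≫ eqToIso (by rw [add_zero]))

end Groth.Agent.QuadricKer
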