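import Groth.Agent.QuadricKer.Kernel
import Groth.Agent.Snapper.DimVanish
import Groth.Agent.FibDim.BaseField
import Groth.Agent.CohBasic.EulerBC
import Groth.Agent.PnEuler.ExtFree
import Groth.Agent.AmpleVan.Uniform
import Groth.Agent.Bdd.Free
import Groth.Prelude.Def_W4c3multigrregularBiProj

/-!
# Bigraded regularity of tensor products on the quadric
-/

set_option linter.style.haveILetI false
set_option linter.unusedSectionVars false
set_option backward.isDefEq.respectTransparency false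
set_option backward.isDefEq.respectTransparency.types false
set_option autoImplicit false
set_option maxHeartbeats 400000

universe u

open CategoryTheory CategoryTheory.Limits AlgebraicGeometry TopologicalSpace Opposite

noncomputable section

namespace Groth.Agent.QuadricKer

open Groth.Agent

variable (k : Type u) [Field k]

theorem dim_quad : topologicalKrullDim (Quad k) ≤ (2 : ℕ) := by
  haveI := FibDim.subsingleton_spec_field k
  haveI : IsProper (CohB1.ProjSpace.toSpec 1 k) := PnCoh.Chow.isProper_toSpec 1 k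
  refine (FibDim.topologicalKrullDim_pullback (f := CohB1.ProjSpace.toSpec 1 k) (g := CohB1.ProjSpace.toSpec 1 k)).le.trans ?_
  rw [P1Bundle.hdim k]
  norm_num

theorem isProper_quad' : IsProper (Quad k ↘ Spec (CommRingCat.of k)) := by
  haveI : IsProper (CohB1.ProjSpace.toSpec 1 k) := PnCoh.Chow.isProper_toSpec 1 k
  show IsProper (pullback.fst (CohB1.ProjSpace.toSpec 1 k) (CohB1.ProjSpace.toSpec 1 k) ≫ CohB1.ProjSpace.toSpec 1 k)
  infer_instance

theorem subsingleton_high {M : (Quad k).Modules} (hM : Coh.IsQCoh M) {i : ℕ} (hi : 3 ≤ i) :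
    Subsingleton (Coh.HH (Quad k) M i) := by
  haveI := isProper_quad' k
  haveI := CurveCohLib.isNoetherian_of_proper (k := k) (X := Quad k)
  haveI : (Quad k).IsSeparated := AmpleVan.isSeparated_of_proper (A := k)
  exact Snapper.subsingleton_HH_of_dim_le (dim_quad k) hM (by omega)

theorem flf_free' (X : Scheme.{u}) (n : ℕ) : FlatMod.IsFinLocFree (FlatMod.freeMod X n) := fun _ =>
  ⟨⊤, n, trivial, ⟨QCoh.freeModRestrict _ n⟩⟩

/-- A globally generated bundle is a quotient of a free module, with quasi-coherent kernel. -/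
theorem exists_gg_seq {G : (Quad k).Modules} (hG : FlatMod.IsFinLocFree G) (hgg : Curv2.IsGloballyGenerated G) :
    ∃ (S : ShortComplex (Quad k).Modules) (N : ℕ), S.ShortExact ∧ FlatMod.IsFinLocFree S.X₁ ∧
      Nonempty (S.X₂ ≅ ∐ fun _ : Fin N => Coh.structureModule (Quad k)) ∧ S.X₃ = G := by
  haveI := isProper_quad' k
  haveI := CurveCohLib.isNoetherian_of_proper (k := k) (X := Quad k)
  have hc := CurveDeg.isCoh_of_isFinLocFree hG
  obtain ⟨q, hq⟩ := Bdd.exists_epi_free_of_finrank (k := k) hgg (CurveCohLib.finite_HH (k := k) hc 0) le_rfl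
  haveI := hq
  refine ⟨ShortComplex.mk (kernel.ι q) q (kernel.condition q), _, ?_, ?_, ⟨Iso.refl _⟩, rfl⟩
  · exact { exact := ShortComplex.exact_of_f_is_kernel _ (kernelIsKernel q) }
  · exact KFlatLib.isFinLocFree_kernel q (flf_free' _ _) hG

theorem subsingleton_free_tensor (E : (Quad k).Modules) {Q : (Quad k).Modules} {N : ℕ}
    (e : Q ≅ ∐ fun _ : Fin N => Coh.structureModule (Quad k)) (i : ℕ) (h : Subsingleton (Coh.HH (Quad k) E i)) :
    Subsingleton (Coh.HH (Quad k) ((DCoh.tensorBi.obj E).obj Q) i) := by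
  obtain ⟨u⟩ := H23.PicMul.unit E
  exact subsingleton_tensor_coprod k _ _ e E i (QCoh.subsingleton_HH_of_iso u.symm i h)

/-- Top cohomology stays zero after tensoring with a globally generated bundle. -/
theorem subsingleton_top {E G : (Quad k).Modules} (hE : Coh.IsQCoh E) (hG : FlatMod.IsFinLocFree G)
    (hgg : Curv2.IsGloballyGenerated G) {i : ℕ} (hi : 2 ≤ i) (h : Subsingleton (Coh.HH (Quad k) E i)) :
    Subsingleton (Coh.HH (Quad k) (CohB1.tensorMod E G) i) := by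
  obtain ⟨S, N, hS, hKf, ⟨e⟩, rfl⟩ := exists_gg_seq k hG hgg
  have hK := QCoh.isQCoh_of_isFinLocFree hKf
  exact PnCoh.Finite.subsingleton_HH_X₃ (shortExact_tensor_quot E hS hG) i
    (subsingleton_free_tensor k E e i h) (subsingleton_high k (CohBasic.isQCoh_tensorMod hE hK) (by omega))

theorem isQCoh_O2 (a b : ℤ) : Coh.IsQCoh (O2 k a b) := QCoh.isQCoh_of_isFinLocFree (free_O2 k a b)

theorem subsingleton_quot_seq (E : (Quad k).Modules) {S : ShortComplex (Quad k).Modules} (hS : S.ShortExact)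
    (hf : FlatMod.IsFinLocFree S.X₃) {M : ℕ} (e : S.X₂ ≅ ∐ fun _ : Fin M => Coh.structureModule (Quad k)) (i : ℕ)
    (h : Subsingleton (Coh.HH (Quad k) E i)) (h' : Subsingleton (Coh.HH (Quad k) (CohB1.tensorMod E S.X₁) (i + 1))) :
    Subsingleton (Coh.HH (Quad k) (CohB1.tensorMod E S.X₃) i) :=
  PnCoh.Finite.subsingleton_HH_X₃ (shortExact_tensor_quot E hS hf) i (subsingleton_free_tensor k E e i h) h'

theorem subsingleton_sub_seq (E : (Quad k).Modules) {S : ShortComplex (Quad k).Modules} (hS : S.ShortExact)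
    (hf : FlatMod.IsFinLocFree S.X₃) {M : ℕ} (e : S.X₂ ≅ ∐ fun _ : Fin M => Coh.structureModule (Quad k)) (i : ℕ)
    (h : Subsingleton (Coh.HH (Quad k) E (i + 1))) (h' : Subsingleton (Coh.HH (Quad k) (CohB1.tensorMod E S.X₃) i)) :
    Subsingleton (Coh.HH (Quad k) (CohB1.tensorMod E S.X₁) (i + 1)) :=
  CurveVanish.subsingleton_HH_X₁ (shortExact_tensor_quot E hS hf) i (subsingleton_free_tensor k E e (i + 1) h) h'

/-- First cohomology of a product of two globally generated bundles in a negative twist. -/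
theorem subsingleton_H1_prod {G H L : (Quad k).Modules} (hL : Coh.IsQCoh L) (hG : FlatMod.IsFinLocFree G)
    (hH : FlatMod.IsFinLocFree H) (hg : Curv2.IsGloballyGenerated G) (hh : Curv2.IsGloballyGenerated H)
    (h2L : Subsingleton (Coh.HH (Quad k) L 2))
    (h1G : Subsingleton (Coh.HH (Quad k) (CohB1.tensorMod G L) 1))
    (h1H : Subsingleton (Coh.HH (Quad k) (CohB1.tensorMod L H) 1)) :
    Subsingleton (Coh.HH (Quad k) (CohB1.tensorMod (CohB1.tensorMod G L) H) 1) := by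
  obtain ⟨S, M, hS, hKf, ⟨e⟩, rfl⟩ := exists_gg_seq k hH hh
  have hK := QCoh.isQCoh_of_isFinLocFree hKf
  have h2 := subsingleton_sub_seq k L hS hH e 1 h2L h1H
  refine subsingleton_quot_seq k (CohB1.tensorMod G L) hS hH e 1 h1G ?_
  obtain ⟨a1⟩ := H23.PicMul.assoc G L S.X₁
  obtain ⟨c⟩ := H23.PicMul.comm G (CohB1.tensorMod L S.X₁)
  exact QCoh.subsingleton_HH_of_iso (a1 ≪≫ c).symm 2
    (subsingleton_top k (CohBasic.isQCoh_tensorMod hL hK) hG hg le_rfl h2)

/-- Rearranging a twisted product. -/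
theorem nonempty_rearrange {X : Scheme.{u}} {G₁ G₂ P M C PM Z : X.Modules} (e1 : CohB1.tensorMod P M ≅ PM)
    (e2 : CohB1.tensorMod PM C ≅ Z) :
    Nonempty (CohB1.tensorMod (CohB1.tensorMod G₁ G₂) Z ≅
      CohB1.tensorMod (CohB1.tensorMod (CohB1.tensorMod G₁ P) C) (CohB1.tensorMod G₂ M)) := by
  obtain ⟨a1⟩ := H23.PicMul.assoc (CohB1.tensorMod G₁ P) C (CohB1.tensorMod G₂ M)
  obtain ⟨cb⟩ := H23.PicMul.comm C (CohB1.tensorMod G₂ M)
  obtain ⟨c1⟩ := nonempty_tensor_congr (Iso.refl (CohB1.tensorMod G₁ P)) cb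
  obtain ⟨a2⟩ := H23.PicMul.assoc (CohB1.tensorMod G₁ P) (CohB1.tensorMod G₂ M) C
  obtain ⟨f⟩ := nonempty_tensor_four G₁ P G₂ M
  obtain ⟨c2⟩ := nonempty_tensor_congr f (Iso.refl C)
  obtain ⟨a3⟩ := H23.PicMul.assoc (CohB1.tensorMod G₁ G₂) (CohB1.tensorMod P M) C
  obtain ⟨g⟩ := nonempty_tensor_congr e1 (Iso.refl C)
  obtain ⟨c3⟩ := nonempty_tensor_congr (Iso.refl (CohB1.tensorMod G₁ G₂)) (g ≪≫ e2)
  exact ⟨(a1 ≪≫ c1 ≪≫ a2.symm ≪≫ c2 ≪≫ a3 ≪≫ c3).symm⟩

theorem nonempty_O2_sub (a b : ℤ) (u v : ℕ) :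
    Nonempty (CohB1.tensorMod (O2 k a b) (O2 k (-(u : ℤ)) (-(v : ℤ))) ≅ O2 k (a - u) (b - v)) := by
  obtain ⟨e⟩ := nonempty_O2_add k a b (-(u : ℤ)) (-(v : ℤ))
  exact ⟨e ≪≫ eqToIso (by rw [← sub_eq_add_neg, ← sub_eq_add_neg])⟩

theorem subsingleton_twist_sub {G : (Quad k).Modules} (p q : ℤ) (u v i : ℕ)
    (h : Subsingleton (Coh.HH (Quad k) (CohB1.tensorMod G (O2 k (p - u) (q - v))) i)) :
    Subsingleton (Coh.HH (Quad k) (CohB1.tensorMod (CohB1.tensorMod G (O2 k p q)) (O2 k (-(u : ℤ)) (-(v : ℤ)))) i) := by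
  obtain ⟨g1⟩ := H23.PicMul.assoc G (O2 k p q) (O2 k (-(u : ℤ)) (-(v : ℤ)))
  obtain ⟨g2⟩ := nonempty_O2_sub k p q u v
  obtain ⟨g3⟩ := nonempty_tensor_congr (Iso.refl G) g2
  exact QCoh.subsingleton_HH_of_iso (g1 ≪≫ g3).symm i h

theorem flf_tensor {X : Scheme.{u}} {M N : X.Modules} (hM : FlatMod.IsFinLocFree M) (hN : FlatMod.IsFinLocFree N) :
    FlatMod.IsFinLocFree (CohB1.tensorMod M N) :=
  KFlatLib.isFinLocFree_tensor hM hN

theorem twistBi_eq (G : (Quad k).Modules) (a b : ℤ) :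
    W4c3multigrregular.twistBi 1 1 k G a b = CohB1.tensorMod G (O2 k a b) := rfl

/-- The tensor product of regular globally generated bundles is regular. -/
theorem isBiReg_tensor (G₁ G₂ : (Quad k).Modules) (hG₁ : FlatMod.IsFinLocFree G₁) (hG₂ : FlatMod.IsFinLocFree G₂)
    (p q m n : ℤ) (hreg₁ : W4c3multigrregular.IsBiReg 1 1 k G₁ p q) (hreg₂ : W4c3multigrregular.IsBiReg 1 1 k G₂ m n)
    (hgg₁ : Curv2.IsGloballyGenerated (CohB1.tensorMod G₁ (O2 k p q)))
    (hgg₂ : Curv2.IsGloballyGenerated (CohB1.tensorMod G₂ (O2 k m n))) :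
    W4c3multigrregular.IsBiReg 1 1 k (CohB1.tensorMod G₁ G₂) (p + m) (q + n) := by
  intro u v huv
  obtain ⟨hpm⟩ := nonempty_O2_add k p q m n
  obtain ⟨hz⟩ := nonempty_O2_sub k (p + m) (q + n) u v
  obtain ⟨e⟩ := nonempty_rearrange (G₁ := G₁) (G₂ := G₂) hpm hz
  rw [twistBi_eq k]
  refine QCoh.subsingleton_HH_of_iso e.symm _ ?_
  have h1' := hreg₁ u v huv
  rw [twistBi_eq k G₁] at h1'
  have h1 := subsingleton_twist_sub k p q u v _ h1'
  have hA : FlatMod.IsFinLocFree (CohB1.tensorMod G₁ (O2 k p q)) := flf_tensor hG₁ (free_O2 k p q)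
  have hB : FlatMod.IsFinLocFree (CohB1.tensorMod G₂ (O2 k m n)) := flf_tensor hG₂ (free_O2 k m n)
  rcases Nat.lt_or_ge (u + v) 2 with h | h
  · have huv1 : u + v = 1 := by omega
    have h2' := hreg₂ u v huv
    rw [twistBi_eq k G₂] at h2'
    have h2 := subsingleton_twist_sub k m n u v _ h2'
    rw [huv1] at h1 h2 ⊢
    obtain ⟨c⟩ := H23.PicMul.comm (O2 k (-(u : ℤ)) (-(v : ℤ))) (CohB1.tensorMod G₂ (O2 k m n))
    exact subsingleton_H1_prod k (isQCoh_O2 k _ _) hA hB hgg₁ hgg₂ (subsingleton_hh_two (by omega)) h1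
      (QCoh.subsingleton_HH_of_iso c.symm 1 h2)
  · exact subsingleton_top k (CohBasic.isQCoh_tensorMod (QCoh.isQCoh_of_isFinLocFree hA) (isQCoh_O2 k _ _)) hB hgg₂ h h1

end Groth.Agent.QuadricKer
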