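import Groth.Agent.QuadricKer.BiReg
import Groth.Agent.ExtPowSh.Filt
import Groth.Agent.ExtPowSh.Twist
import Groth.Agent.ExtPowSh.Lambda
import Groth.Agent.PnEuler.ExtLine

/-!
# Bigraded regularity of exterior powers on the quadric
-/

set_option linter.style.haveILetI false
set_option linter.unusedSectionVars false
set_option backward.isDefEq.respectTransparency false
set_option backward.isDefEq.respectTransparency.types false
set_option autoImplicit false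
set_option maxHeartbeats 400000

universe u

open CategoryTheory CategoryTheory.Limits AlgebraicGeometry TopologicalSpace Opposite

noncomputable section

namespace Groth.Agent.QuadricKer

open Groth.Agent Groth.Agent.ExtPowSh

/-- `⋀^(j+1)` of a quotient bundle as the cokernel of `K ⊗ ⋀^j E → ⋀^(j+1) E`. -/
theorem exists_extPow_coker {X : Scheme.{u}} {S : ShortComplex X.Modules} (hS : S.ShortExact)
    (h₁' : FlatMod.IsFinLocFree S.X₁) (h₃' : FlatMod.IsFinLocFree S.X₃) (j : ℕ) :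
    ∃ α : tens (ExtPowSh.L S.X₁ 1) (ExtPowSh.L S.X₂ j) ⟶ ExtPowSh.L S.X₂ (j + 1),
      Nonempty (cokernel α ≅ ExtPowSh.L S.X₃ (j + 1)) := by
  have h₁ := QCoh.isQCoh_of_isFinLocFree h₁'
  have h₃ := QCoh.isQCoh_of_isFinLocFree h₃'
  have hb := isBasis_small S h₁' h₃'
  have h₂ := QCoh.isQCoh_of_isFinLocFree (isFinLocFree_X₂ hS h₁ h₁' h₃')
  have h : 1 + j = j + 1 := Nat.add_comm 1 j
  have h0 : 0 + (j + 1) = j + 1 := zero_add _
  haveI hepi : Epi (muHom (S := S) h₁ h₂ h0) := RelTildeX.epi_of_locally _ fun U t x hx => by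
    obtain ⟨V, hV, hxV, hle⟩ := Opens.isBasis_iff_nbhd.1 hb hx
    obtain ⟨w, hw⟩ := (toL_bijective S.X₂ (j + 1) h₂ hV.affine).2
      ((ExtPowSh.L S.X₂ (j + 1)).presheaf.map (homOfLE hle).op t)
    obtain ⟨m, hm⟩ := (exists_muHom_eq_iff h₁ h₂ h0 hV.affine w).2 (by
      show (w : ExteriorAlgebra Γ(X, V) (S.X₂.val.obj (op V))) ∈ deg1 (appL S.f V) ^ 0 * _
      rw [pow_zero, one_mul]
      exact w.2)
    exact ⟨V, hle, hxV, m, hm.trans hw⟩
  obtain ⟨f, g, w, hse⟩ := exists_step hS h₁ h₂ h₃ h0 hb (isQCoh_tens h₁ h₂ 1 j) (muHom (S := S) h₁ h₂ h)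
    fun V hV w => exists_muHom_eq_iff h₁ h₂ h hV.affine w
  haveI : IsIso f := by
    haveI := hse.mono_f
    haveI : Epi f := hse.exact.epi_f ((isZero_cokernel_of_epi (muHom (S := S) h₁ h₂ h0)).eq_of_tgt _ _)
    exact isIso_of_mono_of_epi f
  obtain ⟨e0⟩ := ExtPowSh.nonempty_iso (ExtPowSh.isExtPow S.X₁ 0 h₁) (ExtPowSh.isExtPow_zero S.X₁)
  obtain ⟨c⟩ := H23.PicMul.comm (Coh.structureModule X) (ExtPowSh.L S.X₃ (j + 1))
  obtain ⟨u⟩ := H23.PicMul.unit (ExtPowSh.L S.X₃ (j + 1))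
  obtain ⟨e1⟩ := nonempty_tensor_congr e0 (Iso.refl (ExtPowSh.L S.X₃ (j + 1)))
  exact ⟨muHom h₁ h₂ h, ⟨(asIso f).symm ≪≫ e1 ≪≫ c ≪≫ u⟩⟩

variable (k : Type u) [Field k]

/-- Cohomology of a twisted cokernel. -/
theorem subsingleton_coker {A B C : (Quad k).Modules} (hC : FlatMod.IsFinLocFree C) (hA : Coh.IsQCoh A)
    (hB : Coh.IsQCoh B) (α : A ⟶ B) (i : ℕ) (hi : 1 ≤ i)
    (h1 : Subsingleton (Coh.HH (Quad k) (CohB1.tensorMod C B) i))
    (h2 : Subsingleton (Coh.HH (Quad k) (CohB1.tensorMod C A) (i + 1))) :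
    Subsingleton (Coh.HH (Quad k) (CohB1.tensorMod C (cokernel α)) i) := by
  have hκ : (ShortComplex.mk (kernel.ι α) (Abelian.factorThruImage α)
      (by rw [← cancel_mono (Abelian.image.ι α)]; simp)).ShortExact := by
    refine ShortComplex.ShortExact.mk' ?_ inferInstance inferInstance
    have he := ShortComplex.exact_of_f_is_kernel (ShortComplex.mk (kernel.ι α) α (kernel.condition α)) (kernelIsKernel α)
    refine (ShortComplex.exact_iff_of_epi_of_isIso_of_mono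
      (φ := ({ τ₁ := 𝟙 _, τ₂ := 𝟙 _, τ₃ := Abelian.image.ι α, comm₁₂ := by simp, comm₂₃ := by simp } :
        ShortComplex.mk (kernel.ι α) (Abelian.factorThruImage α) _ ⟶ ShortComplex.mk (kernel.ι α) α (kernel.condition α)))).2 he
  have hι : (ShortComplex.mk (Abelian.image.ι α) (cokernel.π α) (kernel.condition _)).ShortExact :=
    ShortComplex.ShortExact.mk' (ShortComplex.exact_of_f_is_kernel _ (kernelIsKernel (cokernel.π α))) inferInstance inferInstance
  have hk : Coh.IsQCoh (CohB1.tensorMod C (kernel α)) :=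
    CohBasic.isQCoh_tensorMod (QCoh.isQCoh_of_isFinLocFree hC) (QCoh.isQCoh_kernel hA hB α)
  exact PnCoh.Finite.subsingleton_HH_X₃ (CurveTensor.shortExact_tensor hC _ _ _ hι) i h1
    (PnCoh.Finite.subsingleton_HH_X₃ (CurveTensor.shortExact_tensor hC _ _ _ hκ) (i + 1) h2
      (subsingleton_high k hk (by omega)))

theorem subsingleton_neg (u v i : ℕ) (hi : u + v = i) (h : 0 < i) :
    Subsingleton (Coh.HH (Quad k) (O2 k (-(u : ℤ)) (-(v : ℤ))) i) := by
  rcases Nat.lt_or_ge i 2 with h' | h'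
  · obtain rfl : i = 1 := by omega
    exact subsingleton_hh_one (Or.inr ⟨by omega, by omega⟩)
  rcases Nat.lt_or_ge i 3 with h'' | h''
  · obtain rfl : i = 2 := by omega
    exact subsingleton_hh_two (by omega)
  · exact subsingleton_high k (isQCoh_O2 k _ _) h''

theorem subsingleton_hh_congr {M N : (Quad k).Modules} (e : Nonempty (M ≅ N)) (i : ℕ)
    (h : Subsingleton (Coh.HH (Quad k) N i)) : Subsingleton (Coh.HH (Quad k) M i) :=
  QCoh.subsingleton_HH_of_iso e.some.symm i h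

/-- Exterior powers of a globally generated regular bundle, twisted down. -/
theorem subsingleton_extPow {G C : (Quad k).Modules} (hC : FlatMod.IsFinLocFree C) (hG : FlatMod.IsFinLocFree G)
    (hgg : Curv2.IsGloballyGenerated G) (i : ℕ) (hi : 1 ≤ i) (hCi : Subsingleton (Coh.HH (Quad k) C i))
    (hC2 : i = 1 → Subsingleton (Coh.HH (Quad k) C 2))
    (hG1 : i = 1 → Subsingleton (Coh.HH (Quad k) (CohB1.tensorMod C G) 1)) (j : ℕ) :
    Subsingleton (Coh.HH (Quad k) (CohB1.tensorMod C (ExtPowSh.L G j)) i) := by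
  cases j with
  | zero =>
    obtain ⟨e0⟩ := ExtPowSh.nonempty_iso (ExtPowSh.isExtPow G 0 (QCoh.isQCoh_of_isFinLocFree hG)) (ExtPowSh.isExtPow_zero G)
    obtain ⟨e1⟩ := nonempty_tensor_congr (Iso.refl C) e0
    obtain ⟨u⟩ := H23.PicMul.unit C
    exact subsingleton_hh_congr k ⟨e1 ≪≫ u⟩ i hCi
  | succ j =>
    obtain ⟨S, N, hS, h₁, ⟨e⟩, rfl⟩ := exists_gg_seq k hG hgg
    obtain ⟨α, ⟨eα⟩⟩ := exists_extPow_coker hS h₁ hG j
    have h₂f := (ConsPropLib.isFinLocFree_iso e).2 (flf_free' (Quad k) N)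
    have h₂ := QCoh.isQCoh_of_isFinLocFree h₂f
    have hq₁ := QCoh.isQCoh_of_isFinLocFree h₁
    obtain ⟨eq⟩ := nonempty_tensor_congr (Iso.refl C) eα
    refine subsingleton_hh_congr k ⟨eq.symm⟩ i
      (subsingleton_coker k hC (isQCoh_tens hq₁ h₂ 1 j) (ExtPowSh.isQCoh _ _ h₂) α i hi ?_ ?_)
    · obtain ⟨a⟩ := PnEuler.nonempty_L_congr e h₂ (j + 1)
      obtain ⟨b⟩ := PnEuler.nonempty_extPow_free (Quad k) N (j + 1)
      exact subsingleton_free_tensor k C (a ≪≫ b) i hCi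
    · rcases Nat.lt_or_ge i 2 with hlt | hge
      · obtain rfl : i = 1 := by omega
        have h2 := subsingleton_sub_seq k C hS hG e 1 (hC2 rfl) (hG1 rfl)
        obtain ⟨a⟩ := PnEuler.nonempty_L_congr e h₂ j
        obtain ⟨b⟩ := PnEuler.nonempty_extPow_free (Quad k) N j
        obtain ⟨l⟩ := PnEuler.nonempty_L_one hq₁
        obtain ⟨c1⟩ := nonempty_tensor_congr (Iso.refl C) (nonempty_tensor_congr l (Iso.refl (ExtPowSh.L S.X₂ j))).some
        obtain ⟨a1⟩ := H23.PicMul.assoc C S.X₁ (ExtPowSh.L S.X₂ j)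
        exact subsingleton_hh_congr k ⟨c1 ≪≫ a1.symm⟩ (1 + 1)
          (subsingleton_free_tensor k (CohB1.tensorMod C S.X₁) (a ≪≫ b) (1 + 1) h2)
      · exact subsingleton_high k (CohBasic.isQCoh_tensorMod (QCoh.isQCoh_of_isFinLocFree hC) (isQCoh_tens hq₁ h₂ 1 j))
          (by omega)

theorem nonempty_tensorPow_O2 (p q : ℤ) : ∀ j : ℕ, Nonempty (CohB1.tensorPow (O2 k p q) j ≅ O2 k (j * p) (j * q))
  | 0 => by
    obtain ⟨z⟩ := nonempty_O2_zero k
    exact ⟨z.symm ≪≫ eqToIso (by simp)⟩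
  | j + 1 => by
    obtain ⟨e⟩ := nonempty_tensorPow_O2 p q j
    obtain ⟨f⟩ := nonempty_tensor_congr e (Iso.refl (O2 k p q))
    obtain ⟨g⟩ := nonempty_O2_add k (j * p) (j * q) p q
    exact ⟨f ≪≫ g ≪≫ eqToIso (by push_cast; ring_nf)⟩

/-- Exterior powers of regular globally generated bundles are regular. -/
theorem isBiReg_extPow (G : (Quad k).Modules) (hG : FlatMod.IsFinLocFree G) (p q : ℤ)
    (hreg : W4c3multigrregular.IsBiReg 1 1 k G p q)
    (hgg : Curv2.IsGloballyGenerated (CohB1.tensorMod G (O2 k p q))) (j : ℕ) (L' : (Quad k).Modules)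
    (hL : ExtPow.IsExtPow j G L') : W4c3multigrregular.IsBiReg 1 1 k L' (j * p) (j * q) := by
  intro u v huv
  have hGq := QCoh.isQCoh_of_isFinLocFree hG
  obtain ⟨eL⟩ := ExtPowSh.nonempty_iso hL (ExtPowSh.isExtPow G j hGq)
  obtain ⟨et⟩ := ExtPowSh.nonempty_twist_iso (E := G) (L := O2 k p q) (k := j) hGq (inv_O2 k p q)
  obtain ⟨ep⟩ := nonempty_tensorPow_O2 k p q j
  obtain ⟨hz⟩ := nonempty_O2_sub k (j * p) (j * q) u v
  obtain ⟨e1⟩ := nonempty_tensor_congr eL hz.symm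
  obtain ⟨e2⟩ := H23.PicMul.assoc (ExtPowSh.L G j) (O2 k (j * p) (j * q)) (O2 k (-(u : ℤ)) (-(v : ℤ)))
  obtain ⟨e3⟩ := nonempty_tensor_congr (Iso.refl (ExtPowSh.L G j)) ep.symm
  obtain ⟨e4⟩ := nonempty_tensor_congr (e3 ≪≫ et.symm) (Iso.refl (O2 k (-(u : ℤ)) (-(v : ℤ))))
  obtain ⟨c⟩ := H23.PicMul.comm (ExtPowSh.L (ExtPowSh.tens G (O2 k p q)) j) (O2 k (-(u : ℤ)) (-(v : ℤ)))
  have hA : FlatMod.IsFinLocFree (CohB1.tensorMod G (O2 k p q)) := flf_tensor hG (free_O2 k p q)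
  rw [twistBi_eq k]
  refine subsingleton_hh_congr k ⟨e1 ≪≫ e2.symm ≪≫ e4 ≪≫ c⟩ _ (subsingleton_extPow k (free_O2 k _ _) hA hgg
    (u + v) (by omega) (subsingleton_neg k u v _ rfl huv) (fun h => subsingleton_hh_two (by omega)) (fun h => ?_) j)
  have h1' := hreg u v huv
  rw [twistBi_eq k G] at h1'
  have h1 := subsingleton_twist_sub k p q u v _ h1'
  rw [h] at h1
  obtain ⟨c'⟩ := H23.PicMul.comm (O2 k (-(u : ℤ)) (-(v : ℤ))) (CohB1.tensorMod G (O2 k p q))
  exact subsingleton_hh_congr k ⟨c'⟩ 1 h1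

end Groth.Agent.QuadricKer
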