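import Groth.Agent.QuadricKer.Kernel
import Groth.Agent.BlowCoh.CokerLift
import Groth.Agent.AmpleVan.Tw

/-!
# An epimorphism `O(1,0)^r ⊕ O(0,1)^r → O(1,1)^r` surjective on global sections

With the two blocks `y₀ - y₁ D` and `x₀ - x₁ E`, `D` diagonal with distinct entries and `E` a cyclic
permutation, the image on sections contains every `x_i y_j` in every component.
-/

set_option autoImplicit false
set_option linter.style.haveILetI false
set_option linter.unusedSectionVars false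
set_option backward.isDefEq.respectTransparency false
set_option backward.isDefEq.respectTransparency.types false
set_option maxHeartbeats 400000

universe u

open CategoryTheory CategoryTheory.Limits AlgebraicGeometry TopologicalSpace Opposite

noncomputable section

namespace Groth.Agent.QuadricKer

open Groth.Agent

section General

variable {X : Scheme.{u}}

local notation "𝒪" => Coh.structureModule X

/-- The maps from `O` factoring through `m`. -/
def imGrp {S T : X.Modules} (m : S ⟶ T) : AddSubgroup (𝒪 ⟶ T) where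
  carrier := {v | ∃ w, w ≫ m = v}
  add_mem' := by
    rintro _ _ ⟨w, rfl⟩ ⟨w', rfl⟩
    exact ⟨w + w', Preadditive.add_comp _ _ _ _ _ _⟩
  zero_mem' := ⟨0, zero_comp⟩
  neg_mem' := by
    rintro _ ⟨w, rfl⟩
    exact ⟨-w, Preadditive.neg_comp _ _⟩

theorem imGrp_comp {S T : X.Modules} (m : S ⟶ T) (a : 𝒪 ⟶ 𝒪) {v : 𝒪 ⟶ T} (h : v ∈ imGrp m) :
    a ≫ v ∈ imGrp m := by
  obtain ⟨w, rfl⟩ := h
  exact ⟨a ≫ w, Category.assoc _ _ _⟩

/-- The components of a map into a finite sum. -/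
theorem hom_to_sum {r : ℕ} {T M : X.Modules} (v : T ⟶ ∐ fun _ : Fin r => M) :
    ∃ c : Fin r → (T ⟶ M), v = ∑ l, c l ≫ Sigma.ι (fun _ : Fin r => M) l := by
  classical
  haveI := Abelian.hasFiniteBiproducts (C := X.Modules)
  let f := fun _ : Fin r => M
  refine ⟨fun l => v ≫ (biproduct.isoCoproduct f).inv ≫ biproduct.π f l, ?_⟩
  have h : ∀ l, Sigma.ι f l = biproduct.ι f l ≫ (biproduct.isoCoproduct f).hom := fun l => by simp
  simp only [Category.assoc, f] at h ⊢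
  rw [← Preadditive.comp_sum]
  conv_lhs => rw [← Category.comp_id v]
  congr 1
  simp only [h, ← Category.assoc (biproduct.π _ _) (biproduct.ι _ _), ← Preadditive.comp_sum,
    ← Preadditive.sum_comp, biproduct.total, Category.id_comp, Iso.inv_hom_id]

variable {r : ℕ} {L1 L2 M : X.Modules} (x : Fin 2 → (Coh.structureModule X ⟶ L1)) (y : Fin 2 → (Coh.structureModule X ⟶ L2))
  (Y : Fin 2 → (L1 ⟶ M)) (W : Fin 2 → (L2 ⟶ M)) (d : Fin r → Coh.Γtop X) (σ : Fin r → Fin r)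

/-- The matrix `[Y₀ - Y₁ d | W₀ - W₁ σ]`. -/
def quadMat : (∐ fun _ : Fin r => L1) ⊞ (∐ fun _ : Fin r => L2) ⟶ ∐ fun _ : Fin r => M :=
  biprod.desc
    (Sigma.desc fun l => (Y 0 - Formal.smulModΓ L1 (d l) ≫ Y 1) ≫ Sigma.ι (fun _ : Fin r => M) l)
    (Sigma.desc fun l => W 0 ≫ Sigma.ι (fun _ : Fin r => M) l - W 1 ≫ Sigma.ι (fun _ : Fin r => M) (σ l))

/-- `x_i y_j` in the component `l`. -/
def ev (l : Fin r) (i j : Fin 2) : 𝒪 ⟶ ∐ fun _ : Fin r => M := x i ≫ Y j ≫ Sigma.ι (fun _ : Fin r => M) l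

variable (hc : ∀ i j, x i ≫ Y j = y j ≫ W i) (hd : ∀ l, IsUnit (d l - d (σ l))) (hσ : Function.Surjective σ)

include hc hd hσ

theorem ev_mem (l : Fin r) (i j : Fin 2) : ev x Y l i j ∈ imGrp (quadMat Y W d σ) := by
  have g1 : ∀ l i, ev x Y l i 0 - Formal.smulModΓ 𝒪 (d l) ≫ ev x Y l i 1 ∈ imGrp (quadMat Y W d σ) := fun l i =>
    ⟨x i ≫ Sigma.ι (fun _ : Fin r => L1) l ≫ biprod.inl, by
      simp [quadMat, ev, Preadditive.comp_sub, Preadditive.sub_comp, reassoc_of% KLin.comp_smulModΓ (x i) (d l)]⟩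
  have g2 : ∀ l j, ev x Y l 0 j - ev x Y (σ l) 1 j ∈ imGrp (quadMat Y W d σ) := fun l j =>
    ⟨y j ≫ Sigma.ι (fun _ : Fin r => L2) l ≫ biprod.inr, by
      simp [quadMat, ev, Preadditive.comp_sub, reassoc_of% hc]⟩
  have h11 : ∀ l, ev x Y l 1 1 ∈ imGrp (quadMat Y W d σ) := fun l' => by
    obtain ⟨l, rfl⟩ := hσ l'
    have h := sub_mem (add_mem (g1 (σ l) 1) (g2 l 0))
      (add_mem (g1 l 0) (imGrp_comp _ (Formal.smulModΓ 𝒪 (d l)) (g2 l 1)))
    obtain ⟨u, hu⟩ := hd l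
    have h' := imGrp_comp _ (Formal.smulModΓ 𝒪 ↑u⁻¹) h
    have e : Formal.smulModΓ 𝒪 (d l) = Formal.smulModΓ 𝒪 ↑u + Formal.smulModΓ 𝒪 (d (σ l)) := by
      rw [← KLin.smulModΓ_add, hu, sub_add_cancel]
    convert h' using 1
    simp only [e, Preadditive.comp_sub, Preadditive.comp_add, Preadditive.add_comp, ← Category.assoc,
      ← KLin.smulModΓ_mul, Units.inv_mul, KLin.smulModΓ_one, Category.id_comp]
    abel
  have h10 : ∀ l, ev x Y l 1 0 ∈ imGrp (quadMat Y W d σ) := fun l => by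
    simpa using add_mem (g1 l 1) (imGrp_comp _ (Formal.smulModΓ 𝒪 (d l)) (h11 l))
  have h0 : ∀ l j, ev x Y l 0 j ∈ imGrp (quadMat Y W d σ) := fun l j => by
    fin_cases j
    · simpa using add_mem (g2 l 0) (h10 (σ l))
    · simpa using add_mem (g2 l 1) (h11 (σ l))
  fin_cases i
  · exact h0 l j
  · fin_cases j
    · exact h10 l
    · exact h11 l

variable (hsp : ∀ v : Coh.structureModule X ⟶ M, ∃ a : Fin 2 → Fin 2 → (Coh.structureModule X ⟶ Coh.structureModule X), v = ∑ i, ∑ j, a i j ≫ x i ≫ Y j)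

include hsp in
theorem imGrp_quadMat (v : 𝒪 ⟶ ∐ fun _ : Fin r => M) : v ∈ imGrp (quadMat Y W d σ) := by
  obtain ⟨c, rfl⟩ := hom_to_sum v
  refine sum_mem fun l _ => ?_
  obtain ⟨a, ha⟩ := hsp (c l)
  simp only [ha, Preadditive.sum_comp, Category.assoc]
  exact sum_mem fun i _ => sum_mem fun j _ => imGrp_comp _ _ (ev_mem x y Y W d σ hc hd hσ l i j)

variable (hep : ∀ {N : X.Modules} (g : M ⟶ N), (∀ i j, x i ≫ Y j ≫ g = 0) → g = 0)

include hep in
theorem epi_quadMat : Epi (quadMat Y W d σ) := by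
  refine Preadditive.epi_of_cancel_zero _ fun {N} g hg => Sigma.hom_ext _ _ fun l => ?_
  rw [comp_zero]
  refine hep _ fun i j => ?_
  obtain ⟨w, hw⟩ := ev_mem x y Y W d σ hc hd hσ l i j
  have h : (w ≫ quadMat Y W d σ) ≫ g = 0 := by rw [Category.assoc, hg, comp_zero]
  rw [hw] at h
  simpa [ev] using h

omit hc hd hσ in
theorem surjective_H0_of_imGrp {S T : X.Modules} (m : S ⟶ T) (h : ∀ v : 𝒪 ⟶ T, v ∈ imGrp m) :
    Function.Surjective (Sheaf.H.map ((SheafOfModules.toSheaf X.ringCatSheaf).map m) 0) := fun z => by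
  obtain ⟨w, hw⟩ := h (InvX.ofSect (Sheaf.H.equiv₀ (Coh.toAb T) isTerminalTop z : Γ(T, ⊤)))
  refine ⟨(Sheaf.H.equiv₀ (Coh.toAb S) isTerminalTop).symm (InvX.one w), ?_⟩
  refine (Sheaf.H.equiv₀ (Coh.toAb T) isTerminalTop).injective ?_
  refine (Sheaf.H.equiv₀_naturality isTerminalTop ((QCoh.toAbFunctor X).map m) _).symm.trans ?_
  refine (congrArg (fun t => m.app ⊤ t) ((Sheaf.H.equiv₀ (Coh.toAb S) isTerminalTop).apply_symm_apply (InvX.one w))).trans ?_
  exact (BlowCoh.one_comp w m).symm.trans ((congrArg InvX.one hw).trans (InvX.one_ofSect _))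

omit hc hd hσ in
/-- The two maps given by a sequence with middle term a sum of two copies. -/
def pairU {S : ShortComplex X.Modules} {T A : X.Modules} (e2 : S.X₂ ≅ T ⊞ T) (e3 : S.X₃ ≅ A) : Fin 2 → (T ⟶ A) :=
  ![biprod.inl ≫ e2.inv ≫ S.g ≫ e3.hom, biprod.inr ≫ e2.inv ≫ S.g ≫ e3.hom]

omit hc hd hσ in
theorem pairU_spec {S : ShortComplex X.Modules} (hS : S.ShortExact) {T A : X.Modules} (e2 : S.X₂ ≅ T ⊞ T)
    (e3 : S.X₃ ≅ A) :
    (∀ {N : X.Modules} (g : A ⟶ N), (∀ i, pairU e2 e3 i ≫ g = 0) → g = 0) ∧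
      (Subsingleton (Coh.HH X S.X₁ 1) → ∀ v : 𝒪 ⟶ A, ∃ w : Fin 2 → (𝒪 ⟶ T), v = ∑ i, w i ≫ pairU e2 e3 i) := by
  haveI := hS.epi_g
  let g := e2.inv ≫ S.g ≫ e3.hom
  refine ⟨fun {N} f hf => ?_, fun h v => ?_⟩
  · haveI : Epi g := epi_comp _ _
    have h0 : biprod.inl ≫ g ≫ f = 0 := by simpa [pairU, g] using hf 0
    have h1 : biprod.inr ≫ g ≫ f = 0 := by simpa [pairU, g] using hf 1
    have hgf : g ≫ f = 0 := biprod.hom_ext' _ _ (h0.trans comp_zero.symm) (h1.trans comp_zero.symm)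
    exact (cancel_epi g).1 (hgf.trans comp_zero.symm)
  · obtain ⟨w, hw⟩ := BlowCoh.exists_factor_of_h1 hS h (v ≫ e3.inv)
    refine ⟨![w ≫ e2.hom ≫ biprod.fst, w ≫ e2.hom ≫ biprod.snd], ?_⟩
    rw [Fin.sum_univ_two]
    show v = (w ≫ e2.hom ≫ biprod.fst) ≫ (biprod.inl ≫ g) + (w ≫ e2.hom ≫ biprod.snd) ≫ (biprod.inr ≫ g)
    have ht : biprod.fst ≫ biprod.inl + biprod.snd ≫ biprod.inr = 𝟙 (T ⊞ T) := biprod.total
    have hv : v = w ≫ e2.hom ≫ (biprod.fst ≫ biprod.inl + biprod.snd ≫ biprod.inr) ≫ g := by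
      rw [ht, Category.id_comp]
      show v = w ≫ e2.hom ≫ e2.inv ≫ S.g ≫ e3.hom
      rw [e2.hom_inv_id_assoc, reassoc_of% hw, Iso.inv_hom_id, Category.comp_id]
    refine hv.trans ?_
    rw [Preadditive.add_comp, Preadditive.comp_add, Preadditive.comp_add]
    simp only [Category.assoc]

end General

section Tensor

theorem pairU_map {X : Scheme.{u}} (G : X.Modules ⥤ X.Modules) [G.PreservesZeroMorphisms] [PreservesBinaryBiproducts G]
    {S : ShortComplex X.Modules} {T A : X.Modules} (e2 : S.X₂ ≅ T ⊞ T) (e3 : S.X₃ ≅ A) (i : Fin 2) :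
    pairU (S := S.map G) (G.mapIso e2 ≪≫ G.mapBiprod T T) (G.mapIso e3) i = G.map (pairU e2 e3 i) := by
  fin_cases i <;> simp [pairU, biprod.inl_desc_assoc, biprod.inr_desc_assoc]

variable {X : Scheme.{u}}

local notation "𝒪" => Coh.structureModule X

/-- The matrix for two pairs of sections, of `A` and of `B`, after tensoring. -/
theorem exists_tensor_quadMat (T : X.Modules ⥤ X.Modules ⥤ X.Modules)
    (η : 𝟭 X.Modules ≅ T.flip.obj (Coh.structureModule X)) (A B : X.Modules) [(T.obj A).Additive] {S S' : ShortComplex X.Modules} (hS : S.ShortExact)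
    (hGS : (S'.map (T.obj A)).ShortExact) (a2 : S.X₂ ≅ Coh.structureModule X ⊞ Coh.structureModule X)
    (a3 : S.X₃ ≅ A) (b2 : S'.X₂ ≅ Coh.structureModule X ⊞ Coh.structureModule X) (b3 : S'.X₃ ≅ B)
    (hk1 : Subsingleton (Coh.HH X S.X₁ 1)) (hk2 : Subsingleton (Coh.HH X ((T.obj A).obj S'.X₁) 1))
    {r : ℕ} (d : Fin r → Coh.Γtop X) (σ : Fin r → Fin r) (hd : ∀ l, IsUnit (d l - d (σ l))) (hσ : Function.Surjective σ) :
    ∃ m : (∐ fun _ : Fin r => (T.obj A).obj (Coh.structureModule X)) ⊞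
        (∐ fun _ : Fin r => (T.obj (Coh.structureModule X)).obj B) ⟶ ∐ fun _ : Fin r => (T.obj A).obj B,
      Epi m ∧ ∀ z, z ∈ imGrp m := by
  classical
  let G := T.obj A
  haveI : G.Additive := ‹(T.obj A).Additive›
  haveI := preservesBinaryBiproducts_of_preservesBiproducts G
  let u := pairU a2 a3
  let v := pairU b2 b3
  obtain ⟨hu, hu'⟩ := pairU_spec hS a2 a3
  obtain ⟨hv, hv'⟩ := pairU_spec (S := S'.map G) hGS (G.mapIso b2 ≪≫ G.mapBiprod 𝒪 𝒪) (G.mapIso b3)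
  simp only [pairU_map G] at hv hv'
  let x : Fin 2 → (𝒪 ⟶ (T.obj A).obj 𝒪) := fun i => u i ≫ η.hom.app A
  let y : Fin 2 → (𝒪 ⟶ (T.obj 𝒪).obj B) := fun j => η.hom.app 𝒪 ≫ (T.obj 𝒪).map (v j)
  let Y : Fin 2 → ((T.obj A).obj 𝒪 ⟶ (T.obj A).obj B) := fun j => G.map (v j)
  let W : Fin 2 → ((T.obj 𝒪).obj B ⟶ (T.obj A).obj B) := fun i => (T.map (u i)).app B
  have hc : ∀ i j, x i ≫ Y j = y j ≫ W i := fun i j => by
    show (u i ≫ η.hom.app A) ≫ G.map (v j) = (η.hom.app 𝒪 ≫ _) ≫ (T.map (u i)).app B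
    refine (congrArg (· ≫ G.map (v j)) (η.hom.naturality (u i))).trans ?_
    refine ((Category.assoc _ _ _).trans ?_).trans (Category.assoc _ _ _).symm
    exact congrArg (η.hom.app 𝒪 ≫ ·) ((T.map (u i)).naturality (v j)).symm
  have hsp : ∀ z : 𝒪 ⟶ (T.obj A).obj B, ∃ a : Fin 2 → Fin 2 → (𝒪 ⟶ 𝒪),
      z = ∑ i, ∑ j, a i j ≫ x i ≫ Y j := fun z => by
    obtain ⟨w, hw⟩ := hv' hk2 z
    choose a ha using fun j => hu' hk1 (w j ≫ η.inv.app A)
    refine ⟨fun i j => a j i, hw.trans ?_⟩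
    rw [Finset.sum_comm]
    refine Finset.sum_congr rfl fun j _ => ?_
    have h' : w j = (w j ≫ η.inv.app A) ≫ η.hom.app A :=
      ((Category.assoc _ _ _).trans ((congrArg (w j ≫ ·) (η.inv_hom_id_app A)).trans
        (Category.comp_id _))).symm
    rw [h', ha j, Preadditive.sum_comp, Preadditive.sum_comp]
    exact Finset.sum_congr rfl fun i _ => (Category.assoc _ _ _).trans (Category.assoc _ _ _)
  have hep : ∀ {N : X.Modules} (g : (T.obj A).obj B ⟶ N), (∀ i j, x i ≫ Y j ≫ g = 0) → g = 0 :=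
    fun {N} g hg => hv g fun j => by
      haveI : Epi (η.hom.app A) := inferInstance
      refine (cancel_epi (η.hom.app A)).1 ?_
      rw [comp_zero]
      exact hu _ fun i => (Category.assoc _ _ _).symm.trans (hg i j)
  exact ⟨quadMat Y W d σ, epi_quadMat x y Y W d σ hc hd hσ hep, imGrp_quadMat x y Y W d σ hc hd hσ hsp⟩

/-- The matrix for two pairs of sections, between sums of modules isomorphic to the tensor products. -/
theorem exists_iso_quadMat {A B L1 L2 A' B' : X.Modules} (eA : A' ≅ Coh.structureModule X) (eB : B' ≅ Coh.structureModule X)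
    (e1 : L1 ≅ CohB1.tensorMod A B') (e2 : L2 ≅ CohB1.tensorMod A' B) {S S' : ShortComplex X.Modules} (hS : S.ShortExact)
    (hGS : (S'.map (DCoh.tensorBi.obj A)).ShortExact) (a2 : S.X₂ ≅ Coh.structureModule X ⊞ Coh.structureModule X)
    (a3 : S.X₃ ≅ A) (b2 : S'.X₂ ≅ Coh.structureModule X ⊞ Coh.structureModule X) (b3 : S'.X₃ ≅ B)
    (hk1 : Subsingleton (Coh.HH X S.X₁ 1)) (hk2 : Subsingleton (Coh.HH X ((DCoh.tensorBi.obj A).obj S'.X₁) 1))
    {r : ℕ} (d : Fin r → Coh.Γtop X) (σ : Fin r → Fin r) (hd : ∀ l, IsUnit (d l - d (σ l))) (hσ : Function.Surjective σ) :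
    ∃ m : (∐ fun _ : Fin r => L1) ⊞ (∐ fun _ : Fin r => L2) ⟶ ∐ fun _ : Fin r => CohB1.tensorMod A B,
      Epi m ∧ ∀ z, z ∈ imGrp m := by
  haveI : (DCoh.tensorBi.obj A).Additive := inferInstance
  obtain ⟨m, hm, him⟩ := exists_tensor_quadMat DCoh.tensorBi AmpleVan.twUnit.symm A B hS hGS a2 a3 b2 b3 hk1 hk2 d σ hd hσ
  let φ := biprod.mapIso (Sigma.mapIso fun _ : Fin r => e1 ≪≫ (DCoh.tensorBi.obj A).mapIso eB)
    (Sigma.mapIso fun _ : Fin r => e2 ≪≫ (DCoh.tensorBi.mapIso eA).app B)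
  refine ⟨φ.hom ≫ m, epi_comp _ _, fun z => ?_⟩
  obtain ⟨w, hw⟩ := him z
  exact ⟨w ≫ φ.inv, by rw [Category.assoc, Iso.inv_hom_id_assoc, hw]⟩

end Tensor

section Apply

variable (k : Type u) [Field k]

local notation "tw" => Groth.Agent.P1Bundle.tw k
local notation "p₁" => (pullback.fst (CohB1.ProjSpace.toSpec 1 k) (CohB1.ProjSpace.toSpec 1 k))
local notation "p₂" => (pullback.snd (CohB1.ProjSpace.toSpec 1 k) (CohB1.ProjSpace.toSpec 1 k))
local notation "𝒪" => Coh.structureModule (Quad k)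

/-- The pulled back Euler sequence, with middle term `O ⊞ O`. -/
theorem exists_line_seq (p : Quad k ⟶ CohB1.ProjSpace 1 k) :
    ∃ S : ShortComplex (Quad k).Modules, S.ShortExact ∧ FlatMod.IsFinLocFree S.X₃ ∧
      Nonempty (S.X₁ ≅ (Scheme.Modules.pullback p).obj (tw (-1))) ∧ Nonempty (S.X₂ ≅ 𝒪 ⊞ 𝒪) ∧
      Nonempty (S.X₃ ≅ (Scheme.Modules.pullback p).obj (tw 1)) := by
  obtain ⟨S, hS, ⟨f1⟩, ⟨f2⟩, ⟨f3⟩⟩ := exists_euler k 0
  have h3 : FlatMod.IsFinLocFree S.X₃ := (ConsPropLib.isFinLocFree_iso f3).2 (P1Bundle.free_tw k _)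
  obtain ⟨e0⟩ := HyperellLib.tw_zero k
  obtain ⟨u⟩ := PicClLib.nonempty_pullback_structureModule p
  let G := Scheme.Modules.pullback p
  haveI : G.Additive := inferInstance
  haveI := preservesBinaryBiproducts_of_preservesBiproducts G
  refine ⟨_, KRRReg.shortExact_pullback_vb p hS h3, ?_, ⟨G.mapIso (f1 ≪≫ eqToIso (by norm_num))⟩,
    ⟨G.mapIso f2 ≪≫ G.mapBiprod _ _ ≪≫ biprod.mapIso (G.mapIso e0 ≪≫ u) (G.mapIso e0 ≪≫ u)⟩,
    ⟨G.mapIso (f3 ≪≫ eqToIso (by norm_num))⟩⟩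
  exact (ConsPropLib.isFinLocFree_iso (G.mapIso f3)).2 (CurveStable.isFinLocFree_of_rank
    (InvEnd.isFinLocFreeOfRank_one (PicClLib.isInvertible_pullback p (P1Bundle.inv_tw k _))))

/-- An epimorphism `O(1,0)^r ⊕ O(0,1)^r → O(1,1)^r` surjective on global sections. -/
theorem exists_epi_H0 [CharZero k] {r : ℕ} (hr : 2 ≤ r) :
    ∃ m : (∐ fun _ : Fin r => O2 k 1 0) ⊞ (∐ fun _ : Fin r => O2 k 0 1) ⟶ ∐ fun _ : Fin r => O2 k 1 1,
      Epi m ∧ Function.Surjective (Sheaf.H.map ((SheafOfModules.toSheaf _).map m) 0) := by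
  classical
  obtain ⟨S, hS, -, ⟨a1⟩, ⟨a2⟩, ⟨a3⟩⟩ := exists_line_seq k p₁
  obtain ⟨S', hS', -, ⟨b1⟩, ⟨b2⟩, ⟨b3⟩⟩ := exists_line_seq k p₂
  obtain ⟨e0⟩ := HyperellLib.tw_zero k
  obtain ⟨u1⟩ := PicClLib.nonempty_pullback_structureModule p₁
  obtain ⟨u2⟩ := PicClLib.nonempty_pullback_structureModule p₂
  let A := (Scheme.Modules.pullback p₁).obj (tw 1)
  let B := (Scheme.Modules.pullback p₂).obj (tw 1)
  have hA : FlatMod.IsFinLocFree A := CurveStable.isFinLocFree_of_rank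
    (InvEnd.isFinLocFreeOfRank_one (PicClLib.isInvertible_pullback p₁ (P1Bundle.inv_tw k 1)))
  have hGS : (S'.map (DCoh.tensorBi.obj A)).ShortExact := CurveTensor.shortExact_tensor hA _ _ _ hS'
  have hk1 : Subsingleton (Coh.HH (Quad k) S.X₁ 1) := by
    obtain ⟨e'⟩ := nonempty_tensor_congr (Iso.refl ((Scheme.Modules.pullback p₁).obj (tw (-1))))
      ((Scheme.Modules.pullback p₂).mapIso e0 ≪≫ u2)
    exact QCoh.subsingleton_HH_of_iso (a1 ≪≫ (AmpleVan.twUnit.app _).symm ≪≫ e'.symm).symm 1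
      (subsingleton_hh_one (a := -1) (b := 0) (Or.inr ⟨by norm_num, by norm_num⟩))
  haveI : (DCoh.tensorBi.obj A).Additive := inferInstance
  have hk2 : Subsingleton (Coh.HH (Quad k) ((DCoh.tensorBi.obj A).obj S'.X₁) 1) :=
    QCoh.subsingleton_HH_of_iso ((DCoh.tensorBi.obj A).mapIso b1).symm 1
      (subsingleton_hh_one (a := 1) (b := -1) (Or.inr ⟨by norm_num, by norm_num⟩))
  haveI : NeZero r := ⟨by omega⟩
  let d : Fin r → Coh.Γtop (Quad k) := fun l => Coh.toGlobal (Quad k ↘ Spec (CommRingCat.of k)) ((l : ℕ) : k)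
  let σ : Fin r → Fin r := fun l => l + 1
  have hd : ∀ l, IsUnit (d l - d (σ l)) := fun l => by
    simp only [d]
    rw [← map_sub]
    refine (IsUnit.mk0 _ (sub_ne_zero.2 fun h => ?_)).map _
    have h' : l = σ l := Fin.ext (Nat.cast_injective h)
    have h1 := congrArg Fin.val (add_eq_left.1 h'.symm)
    rw [Fin.val_one', Fin.val_zero, Nat.mod_eq_of_lt (by omega)] at h1
    omega
  have hσ : Function.Surjective σ := fun l => ⟨l - 1, sub_add_cancel l 1⟩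
  obtain ⟨m, hm, him⟩ := exists_iso_quadMat (A := A) (B := B) ((Scheme.Modules.pullback p₁).mapIso e0 ≪≫ u1)
    ((Scheme.Modules.pullback p₂).mapIso e0 ≪≫ u2) (Iso.refl (O2 k 1 0)) (Iso.refl (O2 k 0 1)) hS hGS a2 a3 b2 b3 hk1 hk2 d σ hd hσ
  exact ⟨m, hm, surjective_H0_of_imGrp _ him⟩

end Apply

end Groth.Agent.QuadricKer
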