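import Groth.Agent.QuadricKer.Basic
import Groth.Agent.ConsPropLib.FibreLocFree

/-!
# Cohomology of the kernel of a matrix of linear forms on the quadric
-/

set_option linter.style.haveILetI false
set_option linter.unusedSectionVars false
set_option backward.isDefEq.respectTransparency false
set_option backward.isDefEq.respectTransparency.types false
set_option autoImplicit false
set_option maxHeartbeats 800000
set_option quotPrecheck false

universe u

open CategoryTheory CategoryTheory.Limits AlgebraicGeometry TopologicalSpace Opposite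

noncomputable section

namespace Groth.Agent.QuadricKer

open Groth.Agent.PnCoh.Finite (mapLin)

variable (k : Type u) [Field k]

local notation "tw" => Groth.Agent.P1Bundle.tw k
local notation "p₁" => (pullback.fst (CohB1.ProjSpace.toSpec 1 k) (CohB1.ProjSpace.toSpec 1 k))
local notation "p₂" => (pullback.snd (CohB1.ProjSpace.toSpec 1 k) (CohB1.ProjSpace.toSpec 1 k))

theorem nonempty_O2_zero : Nonempty (O2 k 0 0 ≅ Coh.structureModule (Quad k)) := by
  obtain ⟨e0⟩ := HyperellLib.tw_zero k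
  obtain ⟨u1⟩ := PicClLib.nonempty_pullback_structureModule p₁
  obtain ⟨u2⟩ := PicClLib.nonempty_pullback_structureModule p₂
  obtain ⟨e⟩ := nonempty_tensor_congr ((Scheme.Modules.pullback p₁).mapIso e0 ≪≫ u1)
    ((Scheme.Modules.pullback p₂).mapIso e0 ≪≫ u2)
  obtain ⟨e'⟩ := H23.PicMul.unit (Coh.structureModule (Quad k))
  exact ⟨e ≪≫ e'⟩

theorem nonempty_tensor_biprod {X : Scheme.{u}} (N A B : X.Modules) :
    Nonempty ((DCoh.tensorBi.obj N).obj (A ⊞ B) ≅ (DCoh.tensorBi.obj N).obj A ⊞ (DCoh.tensorBi.obj N).obj B) := by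
  haveI := preservesBinaryBiproducts_of_preservesBiproducts (DCoh.tensorBi.obj N)
  exact ⟨(DCoh.tensorBi.obj N).mapBiprod A B⟩

theorem subsingleton_tensor_coprod {r : ℕ} (T Q : (Quad k).Modules) (e : Q ≅ ∐ fun _ : Fin r => T)
    (N : (Quad k).Modules) (n : ℕ) (h : Subsingleton (Coh.HH (Quad k) ((DCoh.tensorBi.obj N).obj T) n)) :
    Subsingleton (Coh.HH (Quad k) ((DCoh.tensorBi.obj N).obj Q) n) := by
  classical
  haveI := Abelian.hasFiniteBiproducts (C := (Quad k).Modules)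
  let f := fun _ : Fin r => T
  let F := DCoh.tensorBi.obj N
  refine PnCoh.Finite.subsingleton_HH_of_decomposition (fun _ : Fin r => F.obj T)
    (fun j => F.map (e.hom ≫ (biproduct.isoCoproduct f).inv ≫ biproduct.π f j))
    (fun j => F.map (biproduct.ι f j ≫ (biproduct.isoCoproduct f).hom ≫ e.inv)) ?_ n fun _ => h
  simp only [← Functor.map_comp, ← Functor.map_sum]
  rw [← F.map_id Q]
  congr 1
  simp only [Category.assoc]
  simp only [← Category.assoc (biproduct.π f _) (biproduct.ι f _), ← Preadditive.comp_sum,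
    ← Preadditive.sum_comp, biproduct.total, Category.id_comp, Iso.inv_hom_id_assoc, Iso.hom_inv_id]

section Kernel

variable {k} {r : ℕ} {Q₁ Q₂ P₂ : (Quad k).Modules} (e₁ : Q₁ ≅ ∐ fun _ : Fin r => O2 k 1 0)
  (e₂ : Q₂ ≅ ∐ fun _ : Fin r => O2 k 0 1) (eP : P₂ ≅ ∐ fun _ : Fin r => O2 k 1 1)
  (m : Q₁ ⊞ Q₂ ⟶ P₂) [Epi m]

/-- The defining sequence. -/
abbrev kerSeq : ShortComplex (Quad k).Modules := ShortComplex.mk (kernel.ι m) m (kernel.condition m)

theorem kerSeq_shortExact : (kerSeq m).ShortExact :=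
  { exact := ShortComplex.exact_of_f_is_kernel _ (kernelIsKernel m) }

include e₁ e₂ in
theorem subsingleton_Q (a b : ℤ) (n : ℕ) (h₁ : Subsingleton (Coh.HH (Quad k) (O2 k (a + 1) b) n))
    (h₂ : Subsingleton (Coh.HH (Quad k) (O2 k a (b + 1)) n)) :
    Subsingleton (Coh.HH (Quad k) ((DCoh.tensorBi.obj (O2 k a b)).obj (Q₁ ⊞ Q₂)) n) := by
  obtain ⟨φ⟩ := nonempty_tensor_biprod (O2 k a b) Q₁ Q₂
  obtain ⟨g1⟩ := nonempty_O2_add k a b 1 0
  obtain ⟨g2⟩ := nonempty_O2_add k a b 0 1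
  refine QCoh.subsingleton_HH_of_iso φ.symm n (KoszulChop.subsingleton_HH_biprod n ?_ ?_)
  · exact subsingleton_tensor_coprod k _ _ e₁ _ n
      (QCoh.subsingleton_HH_of_iso (g1 ≪≫ eqToIso (by rw [add_zero])).symm n h₁)
  · exact subsingleton_tensor_coprod k _ _ e₂ _ n
      (QCoh.subsingleton_HH_of_iso (g2 ≪≫ eqToIso (by rw [add_zero])).symm n h₂)

include eP in
theorem subsingleton_P (a b : ℤ) (n : ℕ) (h : Subsingleton (Coh.HH (Quad k) (O2 k (a + 1) (b + 1)) n)) :
    Subsingleton (Coh.HH (Quad k) ((DCoh.tensorBi.obj (O2 k a b)).obj P₂) n) := by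
  obtain ⟨g⟩ := nonempty_O2_add k a b 1 1
  exact subsingleton_tensor_coprod k _ _ eP _ n (QCoh.subsingleton_HH_of_iso g.symm n h)

include e₁ e₂ eP in
/-- A twist of the kernel from the twists of the outer terms. -/
theorem subsingleton_kernel_twist (a b : ℤ) (n : ℕ)
    (hQ₁ : Subsingleton (Coh.HH (Quad k) (O2 k (a + 1) b) (n + 1)))
    (hQ₂ : Subsingleton (Coh.HH (Quad k) (O2 k a (b + 1)) (n + 1)))
    (hP : Subsingleton (Coh.HH (Quad k) (O2 k (a + 1) (b + 1)) n)) :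
    Subsingleton (Coh.HH (Quad k) (CohB1.tensorMod (kernel m) (O2 k a b)) (n + 1)) := by
  have hS := CurveTensor.shortExact_tensor (free_O2 k a b) _ _ _ (kerSeq_shortExact m)
  obtain ⟨c⟩ := H23.PicMul.comm (O2 k a b) (kernel m)
  exact QCoh.subsingleton_HH_of_iso c (n + 1) (CurveVanish.subsingleton_HH_X₁ hS n
    (subsingleton_Q e₁ e₂ a b (n + 1) hQ₁ hQ₂) (subsingleton_P eP a b n hP))

/-- The recursion from an exact sequence of twists. -/
theorem subsingleton_H1_step {X : Scheme.{u}} (K : X.Modules) {S : ShortComplex X.Modules} (hS : S.ShortExact)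
    {L M N : X.Modules} (hNf : FlatMod.IsFinLocFree N) (eL : S.X₁ ≅ L) (eM : S.X₂ ≅ M ⊞ M) (eN : S.X₃ ≅ N)
    (h2 : Subsingleton (Coh.HH X (CohB1.tensorMod K L) 2)) (h1 : Subsingleton (Coh.HH X (CohB1.tensorMod K M) 1)) :
    Subsingleton (Coh.HH X (CohB1.tensorMod K N) 1) := by
  have hT := shortExact_tensor_quot K hS ((ConsPropLib.isFinLocFree_iso eN).2 hNf)
  obtain ⟨φ⟩ := nonempty_tensor_biprod K M M
  refine QCoh.subsingleton_HH_of_iso ((DCoh.tensorBi.obj K).mapIso eN) 1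
    (PnCoh.Finite.subsingleton_HH_X₃ hT 1 ?_ ?_)
  · exact QCoh.subsingleton_HH_of_iso ((DCoh.tensorBi.obj K).mapIso eM ≪≫ φ).symm 1
      (KoszulChop.subsingleton_HH_biprod 1 h1 h1)
  · exact QCoh.subsingleton_HH_of_iso ((DCoh.tensorBi.obj K).mapIso eL).symm 2 h2

theorem exists_euler_snd (a b : ℤ) : ∃ S : ShortComplex (Quad k).Modules, S.ShortExact ∧ Nonempty (S.X₁ ≅ O2 k a (b - 1)) ∧
    Nonempty (S.X₂ ≅ O2 k a b ⊞ O2 k a b) ∧ Nonempty (S.X₃ ≅ O2 k a (b + 1)) := by
  obtain ⟨S, hS, ⟨f1⟩, ⟨f2⟩, ⟨f3⟩⟩ := exists_euler k b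
  have h3 : FlatMod.IsFinLocFree S.X₃ := (ConsPropLib.isFinLocFree_iso f3).2 (P1Bundle.free_tw k _)
  have h := KRRReg.shortExact_pullback_vb p₂ hS h3
  let E := (Scheme.Modules.pullback p₁).obj (tw a)
  have hE : FlatMod.IsFinLocFree E := CurveStable.isFinLocFree_of_rank
    (InvEnd.isFinLocFreeOfRank_one (PicClLib.isInvertible_pullback p₁ (P1Bundle.inv_tw k a)))
  let G := Scheme.Modules.pullback p₂ ⋙ DCoh.tensorBi.obj E
  haveI : G.Additive := inferInstance
  haveI := preservesBinaryBiproducts_of_preservesBiproducts G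
  exact ⟨_, CurveTensor.shortExact_tensor hE _ _ _ h, ⟨G.mapIso f1⟩, ⟨G.mapIso f2 ≪≫ G.mapBiprod _ _⟩, ⟨G.mapIso f3⟩⟩

theorem exists_euler_fst (a b : ℤ) : ∃ S : ShortComplex (Quad k).Modules, S.ShortExact ∧ Nonempty (S.X₁ ≅ O2 k (a - 1) b) ∧
    Nonempty (S.X₂ ≅ O2 k a b ⊞ O2 k a b) ∧ Nonempty (S.X₃ ≅ O2 k (a + 1) b) := by
  obtain ⟨S, hS, ⟨f1⟩, ⟨f2⟩, ⟨f3⟩⟩ := exists_euler k a
  have h3 : FlatMod.IsFinLocFree S.X₃ := (ConsPropLib.isFinLocFree_iso f3).2 (P1Bundle.free_tw k _)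
  have h := KRRReg.shortExact_pullback_vb p₁ hS h3
  let E := (Scheme.Modules.pullback p₂).obj (tw b)
  have hE : FlatMod.IsFinLocFree E := CurveStable.isFinLocFree_of_rank
    (InvEnd.isFinLocFreeOfRank_one (PicClLib.isInvertible_pullback p₂ (P1Bundle.inv_tw k b)))
  let G := Scheme.Modules.pullback p₁ ⋙ DCoh.tensorBi.obj E
  haveI : G.Additive := inferInstance
  haveI := preservesBinaryBiproducts_of_preservesBiproducts G
  obtain ⟨c1⟩ := H23.PicMul.comm E ((Scheme.Modules.pullback p₁).obj (tw (a - 1)))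
  obtain ⟨c2⟩ := H23.PicMul.comm E ((Scheme.Modules.pullback p₁).obj (tw a))
  obtain ⟨c3⟩ := H23.PicMul.comm E ((Scheme.Modules.pullback p₁).obj (tw (a + 1)))
  exact ⟨_, CurveTensor.shortExact_tensor hE _ _ _ h, ⟨G.mapIso f1 ≪≫ c1⟩,
    ⟨G.mapIso f2 ≪≫ G.mapBiprod _ _ ≪≫ biprod.mapIso c2 c2⟩, ⟨G.mapIso f3 ≪≫ c3⟩⟩

include e₁ e₂ eP in
theorem subsingleton_H0_H1 (hs : Function.Surjective (mapLin k m 0)) :
    Subsingleton (Coh.HH (Quad k) (kernel m) 0) ∧ Subsingleton (Coh.HH (Quad k) (kernel m) 1) := by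
  have h10 := finrank_h0_O2 k 1 0
  have h01 := finrank_h0_O2 k 0 1
  have h11 := finrank_h0_O2 k 1 1
  haveI := h10.1; haveI := h01.1; haveI := h11.1
  obtain ⟨i1, r1⟩ := finrank_coprod (k := k) (r := r) (O2 k 1 0) 0
  obtain ⟨i2, r2⟩ := finrank_coprod (k := k) (r := r) (O2 k 0 1) 0
  obtain ⟨i3, r3⟩ := finrank_coprod (k := k) (r := r) (O2 k 1 1) 0
  let q1 := HyperellLib.hhEquiv k e₁ 0
  let q2 := HyperellLib.hhEquiv k e₂ 0
  let q3 := HyperellLib.hhEquiv k eP 0
  haveI := Module.Finite.equiv q1.symm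
  haveI := Module.Finite.equiv q2.symm
  haveI : Module.Finite k (Coh.HH (Quad k) (kerSeq m).X₃ 0) := Module.Finite.equiv q3.symm
  obtain ⟨qq⟩ := HyperellLib.hhBiprod k Q₁ Q₂ 0
  haveI : Module.Finite k (Coh.HH (Quad k) (kerSeq m).X₂ 0) := Module.Finite.equiv qq.symm
  refine ⟨subsingleton_H0_kernel (kerSeq_shortExact m) hs ?_, subsingleton_H1_kernel (kerSeq_shortExact m) hs ?_⟩
  · show Module.finrank k (Coh.HH (Quad k) (Q₁ ⊞ Q₂) 0) = Module.finrank k (Coh.HH (Quad k) P₂ 0)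
    rw [HyperellLib.finrank_hh_biprod, q1.finrank_eq, q2.finrank_eq, q3.finrank_eq, r1, r2, r3]
    have a10 : Module.finrank k (Coh.HH (Quad k) (O2 k 1 0) 0) = 2 := by have := h10.2; norm_num at this; exact_mod_cast this
    have a01 : Module.finrank k (Coh.HH (Quad k) (O2 k 0 1) 0) = 2 := by have := h01.2; norm_num at this; exact_mod_cast this
    have a11 : Module.finrank k (Coh.HH (Quad k) (O2 k 1 1) 0) = 4 := by have := h11.2; norm_num at this; exact_mod_cast this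
    rw [a10, a01, a11]
    ring
  · have hv : ∀ a b : ℤ, -1 ≤ a → -1 ≤ b → Subsingleton (Coh.HH (Quad k) (O2 k a b) 1) := fun a b ha hb =>
      subsingleton_hh_O2 k a b 1 fun i j hij => by
        rcases Nat.lt_or_ge i 1 with hi | hi
        · obtain rfl : j = 1 := by omega
          exact Or.inr (h1_zero k hb)
        · obtain rfl : i = 1 := by omega
          exact Or.inl (h1_zero k ha)
    exact KoszulChop.subsingleton_HH_biprod 1
      (QCoh.subsingleton_HH_of_iso e₁.symm 1 (RegEpi.subsingleton_HH_sigma _ 1 fun _ => hv 1 0 (by omega) (by omega)))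
      (QCoh.subsingleton_HH_of_iso e₂.symm 1 (RegEpi.subsingleton_HH_sigma _ 1 fun _ => hv 0 1 (by omega) (by omega)))

theorem subsingleton_hh_one {a b : ℤ} (h : (a < 0 ∧ b < 0) ∨ (-1 ≤ a ∧ -1 ≤ b)) :
    Subsingleton (Coh.HH (Quad k) (O2 k a b) 1) :=
  subsingleton_hh_O2 k a b 1 fun i j hij => by
    rcases Nat.lt_or_ge i 1 with hi | hi
    · obtain rfl : i = 0 := by omega
      obtain rfl : j = 1 := by omega
      rcases h with h | h
      · exact Or.inl (h0_zero k h.1)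
      · exact Or.inr (h1_zero k h.2)
    · obtain rfl : i = 1 := by omega
      obtain rfl : j = 0 := by omega
      rcases h with h | h
      · exact Or.inr (h0_zero k h.2)
      · exact Or.inl (h1_zero k h.1)

theorem subsingleton_hh_two {a b : ℤ} (h : -1 ≤ a ∨ -1 ≤ b) :
    Subsingleton (Coh.HH (Quad k) (O2 k a b) 2) :=
  subsingleton_hh_O2 k a b 2 fun i j hij => by
    rcases Nat.lt_or_ge i 1 with hi | hi
    · obtain rfl : j = 0 + 2 := by omega
      exact Or.inr (h2_zero k b 0)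
    rcases Nat.lt_or_ge i 2 with hi' | hi'
    · obtain rfl : i = 1 := by omega
      obtain rfl : j = 1 := by omega
      rcases h with h | h
      · exact Or.inl (h1_zero k h)
      · exact Or.inr (h1_zero k h)
    · obtain rfl : i = 0 + 2 := by omega
      exact Or.inl (h2_zero k a 0)

include e₁ e₂ eP in
theorem subsingleton_H1_nonneg (hs : Function.Surjective (mapLin k m 0)) : ∀ a b : ℕ,
    Subsingleton (Coh.HH (Quad k) (CohB1.tensorMod (kernel m) (O2 k a b)) 1) := by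
  have h00 : Subsingleton (Coh.HH (Quad k) (CohB1.tensorMod (kernel m) (O2 k 0 0)) 1) := by
    obtain ⟨z⟩ := nonempty_O2_zero k
    obtain ⟨u⟩ := H23.PicMul.unit (kernel m)
    exact QCoh.subsingleton_HH_of_iso ((DCoh.tensorBi.obj (kernel m)).mapIso z ≪≫ u).symm 1
      (subsingleton_H0_H1 e₁ e₂ eP m hs).2
  have h2 : ∀ a b : ℤ, -1 ≤ a → -1 ≤ b → Subsingleton (Coh.HH (Quad k) (CohB1.tensorMod (kernel m) (O2 k a b)) 2) :=
    fun a b ha hb => subsingleton_kernel_twist e₁ e₂ eP m a b 1 (subsingleton_hh_two (Or.inl (by omega)))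
      (subsingleton_hh_two (Or.inr (by omega))) (subsingleton_hh_one (Or.inr ⟨by omega, by omega⟩))
  intro a b
  induction b with
  | zero =>
    induction a with
    | zero => exact h00
    | succ a ih =>
      obtain ⟨S, hS, ⟨f1⟩, ⟨f2⟩, ⟨f3⟩⟩ := exists_euler_fst (k := k) a 0
      have := subsingleton_H1_step (kernel m) hS (free_O2 k _ _) f1 f2 f3 (h2 _ _ (by omega) (by omega)) ih
      exact_mod_cast this
  | succ b ih =>
    obtain ⟨S, hS, ⟨f1⟩, ⟨f2⟩, ⟨f3⟩⟩ := exists_euler_snd (k := k) a b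
    have := subsingleton_H1_step (kernel m) hS (free_O2 k _ _) f1 f2 f3 (h2 _ _ (by omega) (by omega)) ih
    exact_mod_cast this

include e₁ e₂ eP in
theorem kernel_vanishing (hs : Function.Surjective (mapLin k m 0)) :
    Subsingleton (Coh.HH (Quad k) (kernel m) 0) ∧ Subsingleton (Coh.HH (Quad k) (kernel m) 1) ∧
      Subsingleton (Coh.HH (Quad k) (CohB1.tensorMod (kernel m) (O2 k (-2) (-2))) 2) ∧
      ∀ t : ℤ, Subsingleton (Coh.HH (Quad k) (CohB1.tensorMod (kernel m) (O2 k (2 * t) (2 * t))) 1) := by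
  obtain ⟨h0, h1⟩ := subsingleton_H0_H1 e₁ e₂ eP m hs
  refine ⟨h0, h1, subsingleton_kernel_twist e₁ e₂ eP m _ _ 1 (subsingleton_hh_two (Or.inl (by omega)))
    (subsingleton_hh_two (Or.inr (by omega))) (subsingleton_hh_one (Or.inl ⟨by omega, by omega⟩)), fun t => ?_⟩
  rcases le_or_gt 0 t with ht | ht
  · obtain ⟨s, rfl⟩ := Int.eq_ofNat_of_zero_le ht
    exact_mod_cast subsingleton_H1_nonneg e₁ e₂ eP m hs (2 * s) (2 * s)
  · exact subsingleton_kernel_twist e₁ e₂ eP m _ _ 0 (subsingleton_hh_one (Or.inl ⟨by omega, by omega⟩))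
      (subsingleton_hh_one (Or.inl ⟨by omega, by omega⟩))
      (subsingleton_hh_O2 k _ _ 0 fun i j hij => by
        obtain rfl : i = 0 := by omega
        exact Or.inl (h0_zero k (by omega)))

end Kernel

end Groth.Agent.QuadricKer
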