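import Groth.Agent.QuadricKer.Kernel
import Groth.Agent.BlowCoh.CokerLift
import Groth.Agent.AmpleVan.Tw

/-!
# Cokernels of matrices with two blocks of twists
-/

set_option autoImplicit false
set_option linter.style.haveILetI false
set_option linter.unusedSectionVars false
set_option backward.isDefEq.respectTransparency false
set_option backward.isDefEq.respectTransparency.types false
set_option maxHeartbeats 400000

universe u

open CategoryTheory CategoryTheory.Limits AlgebraicGeometry TopologicalSpace Opposite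

noncomputable section

namespace Groth.Agent.QuadricKer

open Groth.Agent
open Groth.Agent.BlowCoh (hom_eq_zero_of_h0 exists_lift_T1 exists_finite_epi_sub)

variable {X : Scheme.{u}} (k : Type u) [Field k] [X.Over (Spec (CommRingCat.of k))]

section One

variable {T1 : X.Modules} (F : X.Modules ⥤ X.Modules) [F.IsEquivalence] [F.Additive]
  (e1 : F.obj T1 ≅ Coh.structureModule X) {b : ℕ} {Q : X.Modules} (eQ : Q ≅ ∐ fun _ : Fin b => T1)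

include e1 eQ

omit [X.Over (Spec (CommRingCat.of k))] in
theorem sum_hom_eq_zero {M : X.Modules} (h : Subsingleton (Coh.HH X (F.obj M) 0)) (ψ : Q ⟶ M) : ψ = 0 := by
  refine (cancel_epi eQ.inv).1 (Sigma.hom_ext _ _ fun j => ?_)
  rw [comp_zero, comp_zero]
  exact hom_eq_zero_of_h0 F e1 h _

omit [X.Over (Spec (CommRingCat.of k))] in
theorem sum_exists_lift {S : ShortComplex X.Modules} (hS : S.ShortExact)
    (h : Subsingleton (Coh.HH X (F.obj S.X₁) 1)) (ψ : Q ⟶ S.X₃) : ∃ Φ : Q ⟶ S.X₂, Φ ≫ S.g = ψ := by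
  choose Φ hΦ using fun j : Fin b =>
    exists_lift_T1 F e1 hS h (Sigma.ι (fun _ : Fin b => T1) j ≫ eQ.inv ≫ ψ)
  refine ⟨eQ.hom ≫ Sigma.desc Φ, (cancel_epi eQ.inv).1 (Sigma.hom_ext _ _ fun j => ?_)⟩
  rw [Category.assoc, Iso.inv_hom_id_assoc, Sigma.ι_desc_assoc]
  exact hΦ j

end One

include k in
theorem subsingleton_map_sum (F : X.Modules ⥤ X.Modules) [F.IsEquivalence] [F.Additive] {a : ℕ} {P T : X.Modules}
    (eP : P ≅ ∐ fun _ : Fin a => T) (q : ℕ) (h : Subsingleton (Coh.HH X (F.obj T) q)) :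
    Subsingleton (Coh.HH X (F.obj P) q) := by
  let e : F.obj P ≅ ∐ fun _ : Fin a => F.obj T := F.mapIso eP ≪≫ PreservesCoproduct.iso F _
  exact @Equiv.subsingleton _ _ (PnEuler.hhIso k e q).toEquiv (PnEuler.subsingleton_sigma k _ a q h)

section Two

variable {T T₁ T₂ : X.Modules}
  (F₁ : X.Modules ⥤ X.Modules) [F₁.IsEquivalence] [F₁.Additive] (e₁ : F₁.obj T₁ ≅ Coh.structureModule X)
  (F₂ : X.Modules ⥤ X.Modules) [F₂.IsEquivalence] [F₂.Additive] (e₂ : F₂.obj T₂ ≅ Coh.structureModule X)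
  {a b₁ b₂ : ℕ} {P Q₁ Q₂ : X.Modules} (eP : P ≅ ∐ fun _ : Fin a => T)
  (eQ₁ : Q₁ ≅ ∐ fun _ : Fin b₁ => T₁) (eQ₂ : Q₂ ≅ ∐ fun _ : Fin b₂ => T₂)
  (hP₁ : ∀ q < 2, Subsingleton (Coh.HH X (F₁.obj T) q)) (hP₂ : ∀ q < 2, Subsingleton (Coh.HH X (F₂.obj T) q))
  (h₁₂ : Subsingleton (Coh.HH X (F₁.obj T₂) 0)) (h₂₁ : Subsingleton (Coh.HH X (F₂.obj T₁) 0))

include k e₁ e₂ eP eQ₁ eQ₂

include hP₁ hP₂ in
theorem two_hom_eq_zero (h : Q₁ ⊞ Q₂ ⟶ P) : h = 0 := by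
  refine biprod.hom_ext' _ _ ?_ ?_ <;> rw [comp_zero]
  · exact sum_hom_eq_zero F₁ e₁ eQ₁ (subsingleton_map_sum k F₁ eP 0 (hP₁ 0 (by omega))) _
  · exact sum_hom_eq_zero F₂ e₂ eQ₂ (subsingleton_map_sum k F₂ eP 0 (hP₂ 0 (by omega))) _

include hP₁ hP₂ in
theorem two_exists_lift (f : P ⟶ Q₁ ⊞ Q₂) [Mono f] (ψ : Q₁ ⊞ Q₂ ⟶ cokernel f) :
    ∃ Φ : Q₁ ⊞ Q₂ ⟶ Q₁ ⊞ Q₂, Φ ≫ cokernel.π f = ψ := by
  have hS : (ShortComplex.mk f (cokernel.π f) (cokernel.condition f)).ShortExact :=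
    ShortComplex.ShortExact.mk' (ShortComplex.exact_cokernel f) inferInstance inferInstance
  obtain ⟨Φ₁, h1⟩ := sum_exists_lift F₁ e₁ eQ₁ hS (subsingleton_map_sum k F₁ eP 1 (hP₁ 1 (by omega)))
    (biprod.inl ≫ ψ)
  obtain ⟨Φ₂, h2⟩ := sum_exists_lift F₂ e₂ eQ₂ hS (subsingleton_map_sum k F₂ eP 1 (hP₂ 1 (by omega)))
    (biprod.inr ≫ ψ)
  refine ⟨biprod.desc Φ₁ Φ₂, biprod.hom_ext' _ _ ?_ ?_⟩
  · rw [biprod.inl_desc_assoc]; exact h1
  · rw [biprod.inr_desc_assoc]; exact h2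

include h₁₂ h₂₁ in
/-- An endomorphism is block diagonal. -/
theorem two_eq_map (Φ : Q₁ ⊞ Q₂ ⟶ Q₁ ⊞ Q₂) :
    Φ = biprod.map (biprod.inl ≫ Φ ≫ biprod.fst) (biprod.inr ≫ Φ ≫ biprod.snd) := by
  have z1 : biprod.inl ≫ Φ ≫ biprod.snd = 0 :=
    sum_hom_eq_zero F₁ e₁ eQ₁ (subsingleton_map_sum k F₁ eQ₂ 0 h₁₂) _
  have z2 : biprod.inr ≫ Φ ≫ biprod.fst = 0 :=
    sum_hom_eq_zero F₂ e₂ eQ₂ (subsingleton_map_sum k F₂ eQ₁ 0 h₂₁) _
  refine biprod.hom_ext' _ _ (biprod.hom_ext _ _ ?_ ?_) (biprod.hom_ext _ _ ?_ ?_) <;> simp [z1, z2]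

include hP₁ hP₂ h₁₂ h₂₁ in
/-- A cokernel with scalar block-diagonal stabiliser is simple. -/
theorem two_exists_scalar [Infinite k] [IsProper (X ↘ Spec (CommRingCat.of k))]
    (hF₁ : ∀ (M : X.Modules) (r : Coh.Γtop X), F₁.map (Formal.smulModΓ M r) = Formal.smulModΓ (F₁.obj M) r)
    (hF₂ : ∀ (M : X.Modules) (r : Coh.Γtop X), F₂.map (Formal.smulModΓ M r) = Formal.smulModΓ (F₂.obj M) r)
    (f : P ⟶ Q₁ ⊞ Q₂) [Mono f] (hC : FlatMod.IsFinLocFree (cokernel f))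
    (hstab : ∀ (β₁ : Q₁ ≅ Q₁) (β₂ : Q₂ ≅ Q₂) (γ : P ≅ P), γ.hom ≫ f = f ≫ biprod.map β₁.hom β₂.hom → ∃ c : k,
      β₁.hom = Formal.smulModΓ Q₁ (Coh.toGlobal (X ↘ Spec (CommRingCat.of k)) c) ∧
        β₂.hom = Formal.smulModΓ Q₂ (Coh.toGlobal (X ↘ Spec (CommRingCat.of k)) c))
    (φ : cokernel f ⟶ cokernel f) :
    ∃ c : k, φ = Formal.smulModΓ (cokernel f) (Coh.toGlobal (X ↘ Spec (CommRingCat.of k)) c) := by
  haveI := CurveCohLib.isNoetherian_of_proper (k := k) (X := X)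
  have hz := two_hom_eq_zero k F₁ e₁ F₂ e₂ eP eQ₁ eQ₂ hP₁ hP₂
  have hl := two_exists_lift k F₁ e₁ F₂ e₂ eP eQ₁ eQ₂ hP₁ hP₂
  have hm := two_eq_map k F₁ e₁ F₂ e₂ eP eQ₁ eQ₂ h₁₂ h₂₁
  obtain ⟨β, hβ⟩ := hl f (cokernel.π f ≫ φ)
  obtain ⟨S₁, hS₁, hE₁⟩ := exists_finite_epi_sub k F₁ e₁ eQ₁ hF₁ (biprod.inl ≫ β ≫ biprod.fst)
  obtain ⟨S₂, hS₂, hE₂⟩ := exists_finite_epi_sub k F₂ e₂ eQ₂ hF₂ (biprod.inr ≫ β ≫ biprod.snd)
  obtain ⟨l, hl'⟩ := (hS₁.union hS₂).exists_notMem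
  rw [Set.mem_union, not_or] at hl'
  haveI := hE₁ l hl'.1
  haveI := hE₂ l hl'.2
  have hd : β - Formal.smulModΓ (Q₁ ⊞ Q₂) (Coh.toGlobal (X ↘ Spec (CommRingCat.of k)) l) =
      biprod.map (biprod.inl ≫ β ≫ biprod.fst - Formal.smulModΓ Q₁ (Coh.toGlobal (X ↘ Spec (CommRingCat.of k)) l))
        (biprod.inr ≫ β ≫ biprod.snd - Formal.smulModΓ Q₂ (Coh.toGlobal (X ↘ Spec (CommRingCat.of k)) l)) := by
    have k1 : biprod.inl ≫ β = (biprod.inl ≫ β ≫ biprod.fst) ≫ biprod.inl :=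
      (congrArg (biprod.inl ≫ ·) (hm β)).trans (biprod.inl_map _ _)
    have k2 : biprod.inr ≫ β = (biprod.inr ≫ β ≫ biprod.snd) ≫ biprod.inr :=
      (congrArg (biprod.inr ≫ ·) (hm β)).trans (biprod.inr_map _ _)
    refine biprod.hom_ext' _ _ ?_ ?_
    · rw [Preadditive.comp_sub, KLin.comp_smulModΓ, k1, biprod.inl_map, Preadditive.sub_comp]
    · rw [Preadditive.comp_sub, KLin.comp_smulModΓ, k2, biprod.inr_map, Preadditive.sub_comp]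
  haveI : Epi (β - Formal.smulModΓ (Q₁ ⊞ Q₂) (Coh.toGlobal (X ↘ Spec (CommRingCat.of k)) l)) := by
    rw [hd]; infer_instance
  haveI : Epi (cokernel.π f ≫ (φ - Formal.smulModΓ (cokernel f) (Coh.toGlobal (X ↘ Spec (CommRingCat.of k)) l))) := by
    rw [Preadditive.comp_sub, ← hβ, KLin.comp_smulModΓ, ← Preadditive.sub_comp]
    exact epi_comp _ _
  haveI : Epi (φ - Formal.smulModΓ (cokernel f) (Coh.toGlobal (X ↘ Spec (CommRingCat.of k)) l)) :=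
    epi_of_epi (cokernel.π f) _
  haveI := BlowCoh.isIso_of_epi_endo hC (φ - Formal.smulModΓ (cokernel f) (Coh.toGlobal (X ↘ Spec (CommRingCat.of k)) l))
  obtain ⟨γ₀, γ, h, hγ⟩ := BlowCoh.exists_isos_of_lift hz f f (hl f) (hl f) (asIso
    (φ - Formal.smulModΓ (cokernel f) (Coh.toGlobal (X ↘ Spec (CommRingCat.of k)) l)))
  have i1 : biprod.map (biprod.inl ≫ γ₀.hom ≫ biprod.fst) (biprod.inr ≫ γ₀.hom ≫ biprod.snd) ≫
      biprod.map (biprod.inl ≫ γ₀.inv ≫ biprod.fst) (biprod.inr ≫ γ₀.inv ≫ biprod.snd) = 𝟙 _ := by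
    rw [← hm γ₀.hom, ← hm γ₀.inv, γ₀.hom_inv_id]
  have i2 : biprod.map (biprod.inl ≫ γ₀.inv ≫ biprod.fst) (biprod.inr ≫ γ₀.inv ≫ biprod.snd) ≫
      biprod.map (biprod.inl ≫ γ₀.hom ≫ biprod.fst) (biprod.inr ≫ γ₀.hom ≫ biprod.snd) = 𝟙 _ := by
    rw [← hm γ₀.hom, ← hm γ₀.inv, γ₀.inv_hom_id]
  let β₁ : Q₁ ≅ Q₁ := ⟨biprod.inl ≫ γ₀.hom ≫ biprod.fst, biprod.inl ≫ γ₀.inv ≫ biprod.fst,
    by simpa using congrArg (fun z => biprod.inl ≫ z ≫ biprod.fst) i1,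
    by simpa using congrArg (fun z => biprod.inl ≫ z ≫ biprod.fst) i2⟩
  let β₂ : Q₂ ≅ Q₂ := ⟨biprod.inr ≫ γ₀.hom ≫ biprod.snd, biprod.inr ≫ γ₀.inv ≫ biprod.snd,
    by simpa using congrArg (fun z => biprod.inr ≫ z ≫ biprod.snd) i1,
    by simpa using congrArg (fun z => biprod.inr ≫ z ≫ biprod.snd) i2⟩
  obtain ⟨c, hc1, hc2⟩ := hstab β₁ β₂ γ (h.symm.trans (congrArg (f ≫ ·) (hm γ₀.hom)))
  have hc : γ₀.hom = Formal.smulModΓ (Q₁ ⊞ Q₂) (Coh.toGlobal (X ↘ Spec (CommRingCat.of k)) c) := by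
    rw [hm γ₀.hom]
    refine biprod.hom_ext' _ _ ?_ ?_
    · rw [biprod.inl_map, KLin.comp_smulModΓ]
      exact congrArg (· ≫ biprod.inl) hc1
    · rw [biprod.inr_map, KLin.comp_smulModΓ]
      exact congrArg (· ≫ biprod.inr) hc2
  refine ⟨l + c, ?_⟩
  rw [hc, ← KLin.comp_smulModΓ] at hγ
  have h2 := (cancel_epi (cokernel.π f)).1 hγ
  rw [asIso_hom] at h2
  rw [map_add, KLin.smulModΓ_add, h2]
  abel

end Two

end Groth.Agent.QuadricKer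

namespace Groth.Agent.QuadricKer

open Groth.Agent

variable (k : Type u) [Field k]

theorem isProper_quad : IsProper (Quad k ↘ Spec (CommRingCat.of k)) := by
  haveI : IsProper (CohB1.ProjSpace.toSpec 1 k) := PnCoh.Chow.isProper_toSpec 1 k
  show IsProper (pullback.fst (CohB1.ProjSpace.toSpec 1 k) (CohB1.ProjSpace.toSpec 1 k) ≫ CohB1.ProjSpace.toSpec 1 k)
  infer_instance

theorem nonempty_twO2 (a b c d e f : ℤ) (h1 : a + c = e) (h2 : b + d = f) :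
    Nonempty ((AmpleVan.tw (O2 k c d)).obj (O2 k a b) ≅ O2 k e f) := by
  subst h1 h2
  exact nonempty_O2_add k a b c d

theorem subsingleton_twO2 (a b c d : ℤ) (q : ℕ) (h : Subsingleton (Coh.HH (Quad k) (O2 k (a + c) (b + d)) q)) :
    Subsingleton (Coh.HH (Quad k) ((AmpleVan.tw (O2 k c d)).obj (O2 k a b)) q) := by
  obtain ⟨e⟩ := nonempty_twO2 k a b c d _ _ rfl rfl
  exact QCoh.subsingleton_HH_of_iso e.symm q h

theorem subsingleton_hh_zero {a b : ℤ} (h : a < 0 ∨ b < 0) : Subsingleton (Coh.HH (Quad k) (O2 k a b) 0) :=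
  subsingleton_hh_O2 k a b 0 fun i j hij => by
    obtain rfl : i = 0 := by omega
    obtain rfl : j = 0 := by omega
    exact h.imp (h0_zero k) (h0_zero k)

/-- Cokernels of `O(-1,-1)^r → O(-1,0)^r ⊕ O(0,-1)^r` with scalar stabiliser are simple. -/
theorem exists_scalar_quad [Infinite k] {r : ℕ} {P Q₁ Q₂ : (Quad k).Modules}
    (eP : P ≅ ∐ fun _ : Fin r => O2 k (-1) (-1))
    (eQ₁ : Q₁ ≅ ∐ fun _ : Fin r => O2 k (-1) 0) (eQ₂ : Q₂ ≅ ∐ fun _ : Fin r => O2 k 0 (-1))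
    (f : P ⟶ Q₁ ⊞ Q₂) [Mono f] (hC : FlatMod.IsFinLocFree (cokernel f))
    (hstab : ∀ (β₁ : Q₁ ≅ Q₁) (β₂ : Q₂ ≅ Q₂) (γ : P ≅ P), γ.hom ≫ f = f ≫ biprod.map β₁.hom β₂.hom → ∃ c : k,
      β₁.hom = Formal.smulModΓ Q₁ (Coh.toGlobal (Quad k ↘ Spec (CommRingCat.of k)) c) ∧
        β₂.hom = Formal.smulModΓ Q₂ (Coh.toGlobal (Quad k ↘ Spec (CommRingCat.of k)) c))
    (φ : cokernel f ⟶ cokernel f) :
    ∃ c : k, φ = Formal.smulModΓ (cokernel f) (Coh.toGlobal (Quad k ↘ Spec (CommRingCat.of k)) c) := by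
  haveI := isProper_quad k
  haveI := AmpleVan.isEquivalence_tw (inv_O2 k 1 0)
  haveI := AmpleVan.isEquivalence_tw (inv_O2 k 0 1)
  haveI : (AmpleVan.tw (O2 k 1 0)).Additive := Functor.additive_of_preserves_binary_products _
  haveI : (AmpleVan.tw (O2 k 0 1)).Additive := Functor.additive_of_preserves_binary_products _
  obtain ⟨z⟩ := nonempty_O2_zero k
  obtain ⟨e₁⟩ := nonempty_twO2 k (-1) 0 1 0 0 0 rfl rfl
  obtain ⟨e₂⟩ := nonempty_twO2 k 0 (-1) 0 1 0 0 rfl rfl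
  refine two_exists_scalar k (AmpleVan.tw (O2 k 1 0)) (e₁ ≪≫ z) (AmpleVan.tw (O2 k 0 1)) (e₂ ≪≫ z) eP eQ₁ eQ₂
    (fun q hq => subsingleton_twO2 k _ _ _ _ q ?_) (fun q hq => subsingleton_twO2 k _ _ _ _ q ?_)
    (subsingleton_twO2 k _ _ _ _ 0 (subsingleton_hh_zero k (Or.inr (by norm_num))))
    (subsingleton_twO2 k _ _ _ _ 0 (subsingleton_hh_zero k (Or.inl (by norm_num))))
    (fun M x => PnEuler.tensor_map_smul_left _ M x) (fun M x => PnEuler.tensor_map_smul_left _ M x) f hC hstab φ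
  · interval_cases q
    · exact subsingleton_hh_zero k (Or.inr (by norm_num))
    · exact subsingleton_hh_one (Or.inr ⟨by norm_num, by norm_num⟩)
  · interval_cases q
    · exact subsingleton_hh_zero k (Or.inl (by norm_num))
    · exact subsingleton_hh_one (Or.inr ⟨by norm_num, by norm_num⟩)

end Groth.Agent.QuadricKer
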